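import Cfsg.Agent.Lib.Char.ExtraspecialExt.Canon
import Mathlib.GroupTheory.IndexNormal
import Mathlib.GroupTheory.SpecificGroups.Cyclic
import Mathlib.RingTheory.IntegralDomain

/-!
Extensions to a two-group normalising a fixed point free automorphism of odd prime order.
-/

set_option autoImplicit false

namespace CfsgLib.Char.ExtraspecialExt

open Subgroup CfsgLib.Char SemidirectProduct

universe u

variable {E : Type u} [Group E] [Finite E] {z : E}

theorem base (hq : Quad z) {a : MulAut E} {r : ℕ} (hr : r.Prime) (hr2 : r ≠ 2) (ha : orderOf a = r)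
    (hfix : ∀ x, a x = x → x = 1 ∨ x = z) (S : Subgroup (MulAut E)) (hP : IsPGroup 2 S)
    (hnorm : ∀ u ∈ S, u * a * u⁻¹ ∈ zpowers a) : ∃ η, IsExt z S.subtype η := by
  classical
  induction h : Nat.card S using Nat.strong_induction_on generalizing S with
  | _ n ih =>
  rcases subsingleton_or_nontrivial S with hs | hs
  · exact exists_ext_of_subsingleton hq
  -- the subgroup to start from
  obtain ⟨T, hTn, hTlt, hTc, hcyc⟩ : ∃ (T : Subgroup S) (_ : T.Normal), T ≠ ⊤ ∧
      (∀ t ∈ T, Commute a (t : MulAut E)) ∧ IsCyclic (S ⧸ T) := by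
    by_cases hc : ∀ t : S, Commute a (t : MulAut E)
    · haveI : Fact (Nat.Prime 2) := ⟨Nat.prime_two⟩
      obtain ⟨i, hi⟩ := IsPGroup.iff_card.1 hP
      have hi0 : 0 < i := Nat.pos_of_ne_zero fun h0 => by
        rw [h0, pow_zero] at hi
        exact (Finite.one_lt_card (α := S)).ne' hi
      obtain ⟨T, hT⟩ := Sylow.exists_subgroup_card_pow_prime (G := S) 2 (n := i - 1)
        (hi ▸ pow_dvd_pow 2 (Nat.sub_le i 1))
      have hidx : T.index = 2 := by
        have h1 := T.card_mul_index
        rw [hT, hi, show 2 ^ i = 2 ^ (i - 1) * 2 by rw [← pow_succ, Nat.sub_add_cancel hi0]] at h1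
        exact Nat.eq_of_mul_eq_mul_left (by positivity) h1
      haveI := normal_of_index_eq_two hidx
      exact ⟨T, inferInstance, fun ht => by simp [ht] at hidx, fun t _ => hc t,
        isCyclic_of_prime_card (p := 2) hidx⟩
    · haveI : Fact r.Prime := ⟨hr⟩
      have hle : S ≤ normalizer ((zpowers a : Subgroup (MulAut E)) : Set (MulAut E)) := by
        have h1 : ∀ u ∈ S, ∀ x ∈ zpowers a, u * x * u⁻¹ ∈ zpowers a := by
          rintro u hu _ ⟨i, rfl⟩
          show u * a ^ i * u⁻¹ ∈ zpowers a
          rw [← conj_zpow]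
          exact zpow_mem (hnorm u hu) i
        intro u hu
        rw [mem_normalizer_iff]
        exact fun x => ⟨h1 u hu x, fun hx => by simpa [mul_assoc] using h1 u⁻¹ (inv_mem hu) _ hx⟩
      let ψ : S →* MulAut (zpowers a) := (zpowers a).normalizerMonoidHom.comp (inclusion hle)
      have hker : ∀ t : S, t ∈ ψ.ker → Commute a (t : MulAut E) := fun t ht => by
        rw [← MonoidHom.comap_ker, mem_comap, normalizerMonoidHom_ker, mem_subgroupOf] at ht
        exact mem_centralizer_iff.1 ht a (mem_zpowers a)
      haveI : IsCyclic (zpowers a) := inferInstance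
      haveI : IsCyclic (MulAut (zpowers a)) := by
        have hcard : Nat.card (zpowers a) = r := by rw [Nat.card_zpowers, ha]
        haveI : IsCyclic (ZMod (Nat.card (zpowers a)))ˣ := hcard.symm ▸ inferInstance
        exact isCyclic_of_surjective (IsCyclic.mulAutMulEquiv (zpowers a)).symm (MulEquiv.surjective _)
      refine ⟨ψ.ker, inferInstance, fun ht => hc fun t => hker t (ht ▸ mem_top t), hker, ?_⟩
      exact isCyclic_of_injective (QuotientGroup.kerLift ψ) (QuotientGroup.kerLift_injective ψ)
  have hlt : Nat.card (T.map S.subtype) < n := by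
    rw [card_map_of_injective S.subtype_injective, ← h]
    exact T.card_le_card_group.lt_of_ne fun he => hTlt (T.eq_top_of_card_eq he)
  obtain ⟨η', hη'⟩ := ih _ hlt (T.map S.subtype) (hP.to_subgroup T |>.map _)
    (fun u hu => hnorm u (map_subtype_le T hu)) rfl
  let e : T ≃* T.map S.subtype := T.equivMapOfInjective S.subtype S.subtype_injective
  have hη := hη'.pullback (φ' := S.subtype.comp T.subtype) e.toMonoidHom fun t => rfl
  obtain ⟨η₀, hη₀, hinv⟩ := exists_invariant T hTc hr hr2 ha hq hP hfix hnorm hη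
  obtain ⟨χ, hχ, -⟩ := ext_step S.subtype T hq hη₀ hinv
  exact ⟨χ, hχ⟩

end CfsgLib.Char.ExtraspecialExt
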