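import Cfsg.Agent.Lib.Char.ExtraspecialExt.Step
import Cfsg.Agent.Lib.CharNormal.GlaubermanCyclic
import Cfsg.Agent.Lib.CharBlocks.RelGraph
import Mathlib.GroupTheory.NoncommCoprod

/-!
An extension that is invariant under a two-group normalising a fixed point free automorphism of
odd prime order: it is singled out by the Glauberman correspondence for that automorphism.
-/

set_option autoImplicit false

namespace CfsgLib.Char.ExtraspecialExt

open Subgroup CfsgLib.Char CfsgLib.CharNormal SemidirectProduct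
open CfsgLib.CharBlocks.RelGraph (dHom dHom_mul_lin dHom_char dHom_char')
open scoped ComplexConjugate

universe u v w

section General

variable {E : Type u} [Group E] [Finite E] {T : Type v} [Group T] [Finite T] {φ : T →* MulAut E} {z : E}

/-- Composition with a map of semidirect products given by an automorphism. -/
theorem IsExt.comp_map (hq : Quad z) {T' : Type w} [Group T'] {φ' : T' →* MulAut E}
    {η : E ⋊[φ] T → ℂ} (h : IsExt z φ η) (f : MulAut E) (g : T' →* T)
    (hfg : ∀ t, (f : E ≃* E).toMonoidHom.comp (φ' t).toMonoidHom =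
      (φ (g t)).toMonoidHom.comp (f : E ≃* E).toMonoidHom) :
    IsExt z φ' (η ∘ SemidirectProduct.map (φ₁ := φ') (φ₂ := φ) (f : E ≃* E).toMonoidHom g hfg) where
  char := isCharacter_comp h.char _
  fr := by
    have : (fun x => (η ∘ SemidirectProduct.map (φ₁ := φ') (φ₂ := φ) (f : E ≃* E).toMonoidHom g hfg) (inl x)) =
        fun x => η (inl x) := funext fun x => by
      rw [Function.comp_apply, SemidirectProduct.map_inl]
      exact h.fr.aut_apply hq f x
    rw [this]; exact h.fr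

/-- Determinants commute with composition. -/
theorem dHom_comp {X : Type v} {Y : Type w} [Group X] [Finite X] [Group Y] [Finite Y] {χ : X → ℂ}
    (hχ : Cfsg.IsCharacter X χ) (f : Y →* X) : dHom (χ ∘ f) = (dHom χ).comp f := by
  obtain ⟨n, ρ, rfl⟩ := hχ
  let ρ' : Representation ℂ Y (Fin n → ℂ) := ρ.comp f
  rw [show ρ.character ∘ f = ρ'.character from rfl,
    dHom_char, dHom_char]
  exact MonoidHom.ext fun _ => Units.ext rfl

end General

variable {E : Type u} [Group E] {M : Type v} [Group M] (φ : M →* MulAut E) (T : Subgroup M) [T.Normal]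
  [Finite E] [Finite M] {z : E}

omit [Finite E] [Finite M] in
theorem cjT_self {η : E ⋊[φ.comp T.subtype] T → ℂ} (hη : Cfsg.IsCharacter _ η) (t : T)
    (g : E ⋊[φ.comp T.subtype] T) : η (cjT φ T t g) = η g := by
  have : cjT φ T t g = inr t * g * (inr t)⁻¹ := inclT_injective φ T (by
    rw [inclT_cjT, map_mul, map_mul, map_inv]
    congr 2 <;> simp [inclT])
  rw [this]
  exact isClassFunction_of_isCharacter hη g (inr t)

/-- Extending across a cyclic factor of odd order. -/
theorem ext_step_odd (hq : Quad z) [IsCyclic (M ⧸ T)] (hT2 : IsPGroup 2 T)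
    (hdec : ∀ m : M, ∃ x : M, ∃ t : T, Odd (orderOf x) ∧ (∀ t' ∈ T, Commute x t') ∧ m = x * t)
    {η : E ⋊[φ.comp T.subtype] T → ℂ} (h : IsExt z (φ.comp T.subtype) η) :
    ∃ χ, IsExt z φ χ := by
  obtain ⟨χ, hχ, -⟩ := ext_step φ T hq h fun m g => by
    obtain ⟨x, t, hxo, hxt, rfl⟩ := hdec m
    rw [cjT_mul, invariant_of_odd φ T hq hT2 hxo hxt h, cjT_self φ T h.char]
  exact ⟨χ, hχ⟩

end CfsgLib.Char.ExtraspecialExt

namespace CfsgLib.Char.ExtraspecialExt

open Subgroup CfsgLib.Char CfsgLib.CharNormal SemidirectProduct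
open CfsgLib.CharBlocks.RelGraph (dHom dHom_mul_lin dHom_char dHom_char')
open scoped ComplexConjugate

universe u

variable {E : Type u} [Group E] [Finite E] {z : E}

theorem mul_comm_of_mem_zpowers_aux {a : MulAut E} (x y : zpowers a) : x * y = y * x := by
  obtain ⟨i, hi⟩ := x.2
  obtain ⟨j, hj⟩ := y.2
  exact Subtype.ext (show (x : MulAut E) * y = y * x by
    rw [← hi, ← hj]; exact (Commute.zpow_zpow_self a i j).eq)

section Setting

variable {a : MulAut E} {r : ℕ} {S : Subgroup (MulAut E)} (T : Subgroup S)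
  (hcomm : ∀ t ∈ T, Commute a (t : MulAut E))

/-- The action of the product of `⟨a⟩` and `T`. -/
def prodAct : zpowers a × T →* MulAut E :=
  MonoidHom.noncommCoprod (zpowers a).subtype (S.subtype.comp T.subtype) fun x t => by
    obtain ⟨i, hi⟩ := x.2
    show Commute (x : MulAut E) ((t : S) : MulAut E)
    rw [← hi]
    exact (hcomm t t.2).zpow_left i

theorem prodAct_apply (x : zpowers a × T) : prodAct T hcomm x = (x.1 : MulAut E) * ((x.2 : S) : MulAut E) :=
  rfl

/-- The distinguished element. -/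
def sEl : E ⋊[prodAct T hcomm] (zpowers a × T) := inr (⟨a, mem_zpowers a⟩, 1)

theorem sEl_pow (k : ℕ) : (sEl T hcomm) ^ k = inr ((⟨a, mem_zpowers a⟩ : zpowers a) ^ k, 1) := by
  rw [sEl, ← map_pow, Prod.pow_mk, one_pow]

/-- The normal two-subgroup. -/
def bigN : Subgroup (E ⋊[prodAct T hcomm] (zpowers a × T)) :=
  (MonoidHom.fst (zpowers a) T).ker.comap rightHom

instance bigN_normal : (bigN T hcomm).Normal := by unfold bigN; infer_instance

theorem mem_bigN {g : E ⋊[prodAct T hcomm] (zpowers a × T)} : g ∈ bigN T hcomm ↔ g.right.1 = 1 := Iff.rfl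

variable (hr : r.Prime) (hr2 : r ≠ 2) (ha : orderOf a = r)

include ha in
theorem index_bigN : (bigN T hcomm).index = r := by
  rw [bigN, Subgroup.index_comap_of_surjective _ rightHom_surjective, index_ker,
    MonoidHom.range_eq_top.2 Prod.fst_surjective, card_top, Nat.card_zpowers, ha]

include hr hr2 in
theorem coprime_of_two (hP : ∀ x : S, ∃ i, x ^ 2 ^ i = 1) (hq : Quad z) :
    (Nat.card E).Coprime r ∧ (Nat.card (bigN T hcomm)).Coprime r := by
  have h2 : Nat.Coprime 2 r := (Nat.coprime_primes Nat.prime_two hr).2 (Ne.symm hr2)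
  obtain ⟨i, hi⟩ := IsPGroup.iff_card.1 hq.two
  obtain ⟨j, hj⟩ := IsPGroup.iff_card.1 ((show IsPGroup 2 S from hP).to_subgroup T)
  refine ⟨hi ▸ h2.pow_left i, ?_⟩
  have h : Nat.card (bigN T hcomm) = Nat.card (E × T) := by
    refine Nat.card_congr ⟨fun g => (g.1.left, g.1.right.2),
      fun p => ⟨⟨p.1, (1, p.2)⟩, rfl⟩, ?_, fun p => rfl⟩
    rintro ⟨⟨x, y, t⟩, hg⟩
    obtain rfl : y = 1 := hg
    rfl
  rw [h, Nat.card_prod, hi, hj]
  exact (h2.pow_left i).mul_left (h2.pow_left j)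

/-- Extensions with trivial determinant at `a`. -/
structure IsGood (z : E) (χ : E ⋊[prodAct T hcomm] (zpowers a × T) → ℂ) : Prop where
  ext : IsExt z (prodAct T hcomm) χ
  det : dHom χ (sEl T hcomm) = 1

theorem res_bigN (hq : Quad z) {χ : E ⋊[prodAct T hcomm] (zpowers a × T) → ℂ}
    (h : IsExt z (prodAct T hcomm) χ) :
    Cfsg.IsIrrCharacter (bigN T hcomm) (fun n => χ n) := by
  haveI := Fintype.ofFinite (bigN T hcomm)
  haveI := Fintype.ofFinite (E ⋊[S.subtype.comp T.subtype] T)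
  let f : E ⋊[S.subtype.comp T.subtype] T →* E ⋊[prodAct T hcomm] (zpowers a × T) :=
    SemidirectProduct.map ((1 : MulAut E) : E ≃* E).toMonoidHom (MonoidHom.inr (zpowers a) T)
      fun t => MonoidHom.ext fun x => by simp [prodAct_apply]
  have hη := (h.comp_map hq (1 : MulAut E) (MonoidHom.inr (zpowers a) T)
    (φ' := S.subtype.comp T.subtype) fun t => MonoidHom.ext fun x => by simp [prodAct_apply]).irr hq
  let e : E ⋊[S.subtype.comp T.subtype] T ≃* bigN T hcomm :=
    MulEquiv.ofBijective (f.codRestrict (bigN T hcomm) fun g => rfl) ⟨fun g g' hg => by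
      have h1 := congrArg (fun n : bigN T hcomm => n.1.left) hg
      have h2 := congrArg (fun n : bigN T hcomm => n.1.right.2) hg
      exact SemidirectProduct.ext h1 h2, fun n => ⟨⟨n.1.left, n.1.right.2⟩, by
      refine Subtype.ext (SemidirectProduct.ext rfl (Prod.ext ?_ rfl))
      exact n.2.symm⟩⟩
  refine (isIrr_comp_mulEquiv_iff e).1 ?_
  exact hη

include hr ha in
theorem dHom_sEl_pow (χ : E ⋊[prodAct T hcomm] (zpowers a × T) → ℂ) : dHom χ (sEl T hcomm) ^ r = 1 := by
  have h : (⟨a, mem_zpowers a⟩ : zpowers a) ^ r = 1 := Subtype.ext (by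
    rw [SubmonoidClass.coe_pow, ← ha, pow_orderOf_eq_one]; rfl)
  rw [← map_pow, sEl_pow, h]
  rw [Prod.mk_one_one, map_one, map_one]

include ha in
theorem orderOf_sEl : orderOf (sEl T hcomm) = r := by
  rw [sEl, orderOf_injective _ inr_injective]
  rw [Prod.orderOf_mk, orderOf_one, Nat.lcm_one_right, Subgroup.orderOf_mk, ha]

theorem sup_bigN : bigN T hcomm ⊔ zpowers (sEl T hcomm) = ⊤ := by
  refine eq_top_iff.2 fun g _ => ?_
  obtain ⟨i, hi⟩ := g.right.1.2
  have hN : g * ((sEl T hcomm) ^ i)⁻¹ ∈ bigN T hcomm := by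
    rw [mem_bigN, sEl, ← map_zpow, ← map_inv, mul_right, right_inr]
    show g.right.1 * ((⟨a, mem_zpowers a⟩ : zpowers a) ^ i)⁻¹ = 1
    rw [mul_inv_eq_one]
    exact Subtype.ext hi.symm
  rw [← inv_mul_cancel_right g ((sEl T hcomm) ^ i)]
  exact mul_mem_sup hN (zpow_mem (mem_zpowers _) i)

variable (hq : Quad z) (hP : IsPGroup 2 S)

include hr hr2 ha hq hP in
theorem IsGood.canonical {χ : E ⋊[prodAct T hcomm] (zpowers a × T) → ℂ} (h : IsGood T hcomm z χ) :
    CyclicGlauberman.IsCanonical (bigN T hcomm) χ := by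
  refine ⟨h.ext.irr hq, res_bigN T hcomm hq h.ext, ?_⟩
  rw [index_bigN T hcomm ha]
  refine Nat.Coprime.coprime_dvd_left ?_ (coprime_of_two T hcomm hr hr2 hP hq).2
  have hdet : Cfsg.detChar χ = linFun (dHom χ) := funext fun g => by
    rw [linFun_apply, CfsgLib.CharBlocks.RelGraph.dHom_apply h.ext.char]
  rw [Cfsg.detOrder, hdet, orderOf_linFun]
  refine orderOf_dvd_of_pow_eq_one (MonoidHom.ext fun g => ?_)
  rw [MonoidHom.pow_apply, MonoidHom.one_apply]
  have hle : bigN T hcomm ⊔ zpowers (sEl T hcomm) ≤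
      ((powMonoidHom (Nat.card (bigN T hcomm)) : ℂˣ →* ℂˣ).comp (dHom χ)).ker := by
    refine sup_le (fun n hn => ?_) (zpowers_le.2 ?_)
    · show dHom χ n ^ _ = 1
      rw [← map_pow, show n ^ Nat.card (bigN T hcomm) = 1 from
        congrArg Subtype.val (pow_card_eq_one' (x := (⟨n, hn⟩ : bigN T hcomm))), map_one]
    · show dHom χ _ ^ _ = 1
      rw [h.det, one_pow]
  exact hle (sup_bigN T hcomm ▸ mem_top g)

include hr hr2 ha hq hP in
/-- A good extension exists. -/
theorem exists_good [T.Normal] {η : E ⋊[S.subtype.comp T.subtype] T → ℂ}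
    (hη : IsExt z (S.subtype.comp T.subtype) η) :
    ∃ χ, IsGood T hcomm z χ := by
  classical
  obtain ⟨χ, hχ⟩ : ∃ χ, IsExt z (prodAct T hcomm) χ := by
    let T' : Subgroup (zpowers a × T) := (MonoidHom.fst (zpowers a) T).ker
    let g : T' →* T := (MonoidHom.snd (zpowers a) T).comp T'.subtype
    have hg : ∀ t, (S.subtype.comp T.subtype) (g t) = (prodAct T hcomm).comp T'.subtype t := fun t => by
      have h1 : (t : zpowers a × T).1 = 1 := t.2
      show _ = prodAct T hcomm t
      rw [prodAct_apply, h1, Subgroup.coe_one, one_mul]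
      rfl
    have hη' := hη.pullback g hg
    haveI : IsCyclic ((zpowers a × T) ⧸ T') := isCyclic_of_surjective
      (QuotientGroup.quotientKerEquivOfSurjective (MonoidHom.fst (zpowers a) T) Prod.fst_surjective).symm
      (MulEquiv.surjective _)
    have hT' : IsPGroup 2 T' := (hP.to_subgroup T).of_injective g fun x y h =>
      Subtype.ext (Prod.ext (x.2.trans y.2.symm) h)
    refine ext_step_odd (prodAct T hcomm) T' hq hT' (fun m => ?_) hη'
    refine ⟨(m.1, 1), ⟨(1, m.2), rfl⟩, (hr.odd_of_ne_two hr2).of_dvd_nat ?_, fun t' ht' => ?_,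
      Prod.ext (mul_one m.1).symm (one_mul m.2).symm⟩
    · rw [Prod.orderOf_mk, orderOf_one, Nat.lcm_one_right,
        show r = Nat.card (zpowers a) by rw [Nat.card_zpowers, ha]]
      exact _root_.orderOf_dvd_natCard m.1
    · exact Prod.ext (show m.1 * t'.1 = t'.1 * m.1 by rw [show t'.1 = 1 from ht', one_mul, mul_one])
        (show (1 : T) * t'.2 = t'.2 * 1 by rw [one_mul, mul_one])
  obtain ⟨d, hd, hd1, -⟩ := hχ.one_eq
  have hdr : d.Coprime r := (coprime_of_two T hcomm hr hr2 hP hq).1.coprime_dvd_left ⟨2 * d, by rw [← hd]; ring⟩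
  obtain ⟨e', -, he⟩ := Nat.exists_mul_mod_eq_of_coprime (r - 1) hdr hr.ne_zero
  let l : zpowers a × T →* ℂˣ :=
    ((dHom χ).comp (inr.comp (MonoidHom.inl (zpowers a) T)) ^ e').comp (MonoidHom.fst (zpowers a) T)
  refine ⟨χ * tw (prodAct T hcomm) l, hχ.twist l, ?_⟩
  rw [tw_eq, dHom_mul_lin hχ.char hd1]
  show (l (sEl T hcomm).right) ^ d * dHom χ (sEl T hcomm) = 1
  show (dHom χ (inr ((⟨a, mem_zpowers a⟩ : zpowers a), (1 : T))) ^ e') ^ d * dHom χ (sEl T hcomm) = 1
  rw [← sEl, ← pow_mul, ← pow_succ]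
  obtain ⟨q, hq'⟩ : r ∣ e' * d + 1 := by
    rw [← Nat.modEq_zero_iff_dvd]
    have h2 : e' * d + 1 ≡ (r - 1) + 1 [MOD r] := by
      refine Nat.ModEq.add_right 1 ?_
      rw [mul_comm]
      exact he
    refine h2.trans ?_
    rw [Nat.sub_add_cancel hr.one_le]
    exact Nat.modEq_zero_iff_dvd.2 dvd_rfl
  rw [hq', pow_mul, dHom_sEl_pow T hcomm hr ha, one_pow]

variable (hfix : ∀ x, a x = x → x = 1 ∨ x = z)

include hr hr2 ha hq hP hfix in
/-- The values on the coset of `a` are a scalar multiple of a linear character of `T`. -/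
theorem exists_lam {χ : E ⋊[prodAct T hcomm] (zpowers a × T) → ℂ} (h : IsGood T hcomm z χ) :
    χ (sEl T hcomm) ≠ 0 ∧ ∃ lam : T →* ℂˣ,
      ∀ t, χ (inr (⟨a, mem_zpowers a⟩, t)) = χ (sEl T hcomm) * (lam t : ℂ) := by
  classical
  haveI := Fintype.ofFinite (E ⋊[prodAct T hcomm] (zpowers a × T))
  haveI := Fintype.ofFinite (bigN T hcomm)
  haveI := Fintype.ofFinite (CyclicGlauberman.fix (bigN T hcomm) (sEl T hcomm))
  set s := sEl T hcomm with hs
  have hidx := index_bigN T hcomm ha
  have hord : orderOf s = (bigN T hcomm).index := (orderOf_sEl T hcomm ha).trans hidx.symm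
  have hcop : (Nat.card (bigN T hcomm)).Coprime (bigN T hcomm).index :=
    hidx ▸ (coprime_of_two T hcomm hr hr2 hP hq).2
  obtain ⟨β, ε, hε, hval⟩ := CyclicGlauberman.exists_pm hcop hord (sup_bigN T hcomm)
    (h.canonical T hcomm hr hr2 ha hq hP)
  set H : Subgroup (E ⋊[prodAct T hcomm] (zpowers a × T)) := (inl (φ := prodAct T hcomm)).range with hH
  haveI := Fintype.ofFinite H
  haveI := Fintype.ofFinite (CyclicGlauberman.fix H s)
  haveI : H.Normal := range_inl_normal
  have hcopH : (Nat.card H).Coprime (orderOf s) := by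
    rw [orderOf_sEl T hcomm ha, hH, Nat.card_congr (MonoidHom.ofInjective inl_injective).toEquiv.symm]
    exact (coprime_of_two T hcomm hr hr2 hP hq).1
  have hsum := CyclicGlauberman.sum_coset hcopH (fun g hg => Subgroup.Normal.conj_mem inferInstance g hg s)
    (F := fun x => χ x * conj (χ x))
    (fun g _ x => CyclicGlauberman.mul_conj_invariant (isClassFunction_of_isCharacter h.ext.char)
      (isClassFunction_of_isCharacter h.ext.char) g x)
  have hFs : ∀ c : CyclicGlauberman.fix H s, χ ((c : E ⋊[prodAct T hcomm] (zpowers a × T)) * s) * conj (χ ((c : E ⋊[prodAct T hcomm] (zpowers a × T)) * s)) = χ s * conj (χ s) := by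
    intro c
    obtain ⟨x, hx⟩ := (CyclicGlauberman.mem_fix.1 c.2).1
    have hc := (CyclicGlauberman.mem_fix.1 c.2).2
    rw [← hx] at hc ⊢
    have hax : a x = x := by
      have h1 := congrArg SemidirectProduct.left hc
      have h2 : prodAct T hcomm ((⟨a, mem_zpowers a⟩ : zpowers a), (1 : T)) = a := by simp [prodAct_apply]
      rw [hs, sEl, mul_left, mul_left, left_inl, right_inl, left_inr, right_inr, h2] at h1
      simpa using h1.symm
    rcases hfix x hax with h0 | h0 <;> rw [h0] at hc ⊢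
    · rw [map_one, one_mul]
    · rw [hc, h.ext.mul_z, map_neg, neg_mul_neg]
  rw [Finset.sum_congr rfl fun c _ => hFs c, Finset.sum_const, Finset.card_univ, nsmul_eq_mul,
    ← Nat.card_eq_fintype_card, Finset.sum_congr rfl (fun g _ => by
      rw [show χ ((g : E ⋊[prodAct T hcomm] (zpowers a × T)) * s) = χ (s * g) from char_mul_comm' h.ext.char _ _]) (g := fun g : H =>
        χ (s * g) * conj (χ (s * g))), sum_normSq_coset H h.ext.char (h.ext.res_irr hq) s] at hsum
  have hnorm : χ s * conj (χ s) = 1 := by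
    refine mul_left_cancel₀ (card_ne_zero' (G := H)) (mul_left_cancel₀
      (card_ne_zero' (G := CyclicGlauberman.fix H s)) ?_)
    rw [mul_one, hsum]; ring
  have hs0 : χ s ≠ 0 := fun h0 => by simp [h0] at hnorm
  have hs1 : χ s = (ε : ℂ) * β.1 1 := by
    have := hval 1
    rwa [Subgroup.coe_one, one_mul] at this
  obtain ⟨n, hn⟩ := exists_degree (isCharacter_of_isIrr β.2)
  have hβ1 : β.1 1 = 1 := by
    have h2 : (ε : ℂ) * ε = 1 := by rcases hε with rfl | rfl <;> norm_num
    rw [hs1, hn, map_mul, Complex.conj_natCast, map_intCast,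
      show (ε : ℂ) * n * (ε * n) = (ε * ε) * ((n * n : ℕ) : ℂ) by push_cast; ring, h2, one_mul] at hnorm
    have h3 : n * n = 1 := by exact_mod_cast hnorm
    rw [hn, Nat.eq_one_of_mul_eq_one_left h3, Nat.cast_one]
  let j : T →* CyclicGlauberman.fix (bigN T hcomm) s :=
    ((inr (φ := prodAct T hcomm)).comp (MonoidHom.inr (zpowers a) T)).codRestrict _ fun t =>
      CyclicGlauberman.mem_fix.2 ⟨(mem_bigN T hcomm).2 rfl, by
        show inr ((1 : zpowers a), t) * inr (⟨a, mem_zpowers a⟩, (1 : T)) = inr (⟨a, mem_zpowers a⟩, (1 : T)) * inr (1, t)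
        rw [← map_mul, ← map_mul, Prod.mk_mul_mk, Prod.mk_mul_mk, one_mul, mul_one, one_mul, mul_one]⟩
  refine ⟨hs0, (linearHom (isCharacter_of_isIrr β.2) hβ1).comp j, fun t => ?_⟩
  rw [MonoidHom.comp_apply, linearHom_apply, hs1, hβ1, mul_one, ← hval]
  show _ = χ (inr ((1 : zpowers a), t) * inr (⟨a, mem_zpowers a⟩, (1 : T)))
  rw [← map_mul, Prod.mk_mul_mk, one_mul, mul_one]

include hr hr2 ha hq hP hfix in
/-- The distinguished extension, whose values on the coset of `a` are constant on `T`. -/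
theorem exists_normalised {χ : E ⋊[prodAct T hcomm] (zpowers a × T) → ℂ} (h : IsGood T hcomm z χ) :
    ∃ χ₀, IsGood T hcomm z χ₀ ∧ ∀ t, χ₀ (inr (⟨a, mem_zpowers a⟩, t)) = χ₀ (sEl T hcomm) := by
  obtain ⟨-, lam, hlam⟩ := exists_lam T hcomm hr hr2 ha hq hP hfix h
  let l : zpowers a × T →* ℂˣ := (lam⁻¹).comp (MonoidHom.snd (zpowers a) T)
  refine ⟨χ * tw (prodAct T hcomm) l, ⟨h.ext.twist l, ?_⟩, fun t => ?_⟩
  · obtain ⟨d, -, hd1, -⟩ := h.ext.one_eq
    rw [tw_eq, dHom_mul_lin h.ext.char hd1]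
    show (lam (sEl T hcomm).right.2)⁻¹ ^ d * dHom χ (sEl T hcomm) = 1
    rw [show (sEl T hcomm).right.2 = 1 from rfl, map_one, inv_one, one_pow, one_mul, h.det]
  · rw [Pi.mul_apply, Pi.mul_apply, tw_inr, hlam,
      show tw (prodAct T hcomm) l (sEl T hcomm) = (((lam 1)⁻¹ : ℂˣ) : ℂ) from rfl,
      show l (⟨a, mem_zpowers a⟩, t) = (lam t)⁻¹ from rfl, map_one, inv_one, Units.val_one, mul_one,
      Units.val_inv_eq_inv_val, mul_assoc, mul_inv_cancel₀ (Units.ne_zero _), mul_one]

include hr hr2 ha hq hP hfix in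
/-- It is unique. -/
theorem normalised_unique {χ χ' : E ⋊[prodAct T hcomm] (zpowers a × T) → ℂ}
    (h : IsGood T hcomm z χ) (h' : IsGood T hcomm z χ')
    (hn : ∀ t, χ (inr (⟨a, mem_zpowers a⟩, t)) = χ (sEl T hcomm))
    (hn' : ∀ t, χ' (inr (⟨a, mem_zpowers a⟩, t)) = χ' (sEl T hcomm)) : χ' = χ := by
  obtain ⟨l, hl⟩ := h.ext.exists_twist hq h'.ext
  obtain ⟨d, hd, hd1, -⟩ := h.ext.one_eq
  have hdr : d.Coprime r :=
    (coprime_of_two T hcomm hr hr2 hP hq).1.coprime_dvd_left ⟨2 * d, by rw [← hd]; ring⟩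
  have hla : l (⟨a, mem_zpowers a⟩, 1) = 1 := by
    rw [← orderOf_eq_one_iff]
    refine Nat.eq_one_of_dvd_coprimes hdr (orderOf_dvd_of_pow_eq_one ?_) (orderOf_dvd_of_pow_eq_one ?_)
    · have h1 := h'.det
      rw [hl, tw_eq, dHom_mul_lin h.ext.char hd1] at h1
      have h2 : l (⟨a, mem_zpowers a⟩, (1 : T)) ^ d * dHom χ (sEl T hcomm) = 1 := h1
      rwa [h.det, mul_one] at h2
    · rw [← map_pow, Prod.pow_mk, one_pow, show (⟨a, mem_zpowers a⟩ : zpowers a) ^ r = 1 from
        Subtype.ext (by rw [SubmonoidClass.coe_pow, ← ha, pow_orderOf_eq_one]; rfl), Prod.mk_one_one, map_one]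
  have hs0 := (exists_lam T hcomm hr hr2 ha hq hP hfix h).1
  have hl1 : l = 1 := by
    refine MonoidHom.ext fun m => ?_
    obtain ⟨x, t⟩ := m
    have hm : ∀ t, l (⟨a, mem_zpowers a⟩, t) = 1 := by
      intro t
      have h1 := hn' t
      rw [hl, Pi.mul_apply, Pi.mul_apply, tw_inr, sEl, tw_inr, hla, Units.val_one, mul_one, hn] at h1
      exact Units.ext ((mul_eq_left₀ hs0).1 h1)
    obtain ⟨i, hi⟩ := x.2
    rw [show x = (⟨a, mem_zpowers a⟩ : zpowers a) ^ i from Subtype.ext hi.symm,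
      show (((⟨a, mem_zpowers a⟩ : zpowers a) ^ i, t) : zpowers a × T) =
        (⟨a, mem_zpowers a⟩, 1) ^ (i - 1) * (⟨a, mem_zpowers a⟩, t) by
          refine Prod.ext ?_ ?_
          · show _ = _ ^ (i - 1) * _
            rw [← zpow_add_one, sub_add_cancel]
          · show t = (1 : T) ^ (i - 1) * t
            rw [one_zpow, one_mul],
      map_mul, map_zpow, hla, hm, one_zpow, one_mul]
    rfl
  rw [hl, hl1]
  funext g
  simp [tw]

include hcomm hr hr2 ha hq hP hfix in
/-- An extension to `T` gives one invariant under every element of `S` normalising `⟨a⟩`. -/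
theorem exists_invariant [T.Normal] (hnorm : ∀ u ∈ S, u * a * u⁻¹ ∈ zpowers a)
    {η : E ⋊[S.subtype.comp T.subtype] T → ℂ} (hη : IsExt z (S.subtype.comp T.subtype) η) :
    ∃ η₀, IsExt z (S.subtype.comp T.subtype) η₀ ∧ ∀ u g, η₀ (cjT S.subtype T u g) = η₀ g := by
  classical
  haveI := Fintype.ofFinite (E ⋊[prodAct T hcomm] (zpowers a × T))
  haveI := Fintype.ofFinite (bigN T hcomm)
  obtain ⟨χ₁, h₁⟩ := exists_good T hcomm hr hr2 ha hq hP hη
  obtain ⟨χ, h, hn⟩ := exists_normalised T hcomm hr hr2 ha hq hP hfix h₁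
  let j : E ⋊[S.subtype.comp T.subtype] T →* E ⋊[prodAct T hcomm] (zpowers a × T) :=
    SemidirectProduct.map ((1 : MulAut E) : E ≃* E).toMonoidHom (MonoidHom.inr (zpowers a) T)
      fun t => MonoidHom.ext fun x => by simp [prodAct_apply]
  refine ⟨χ ∘ j, h.ext.comp_map hq (1 : MulAut E) _ _, fun u g => ?_⟩
  obtain ⟨k, hk⟩ : ∃ k : ℕ, (u : MulAut E) * a * (u : MulAut E)⁻¹ = a ^ k := by
    obtain ⟨k, hk⟩ := (mem_powers_iff_mem_zpowers (G := MulAut E)).2 (hnorm u u.2)
    exact ⟨k, hk.symm⟩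
  let α : zpowers a →* zpowers a :=
    { toFun := fun x => x ^ k
      map_one' := one_pow k
      map_mul' := fun x y => (show Commute x y from
        mul_comm_of_mem_zpowers_aux x y).mul_pow k }
  let g₂ : zpowers a × T →* zpowers a × T := MonoidHom.prodMap α (MulAut.conjNormal u : T ≃* T).toMonoidHom
  have hconj : ∀ x : zpowers a, (u : MulAut E) * x * (u : MulAut E)⁻¹ = (x : MulAut E) ^ k := by
    intro x
    obtain ⟨i, hi⟩ := x.2
    rw [← hi, ← conj_zpow, hk, ← zpow_natCast, ← zpow_mul, ← zpow_natCast, ← zpow_mul, mul_comm]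
  have hcompat : ∀ m, (u : MulAut E).toMonoidHom.comp (prodAct T hcomm m).toMonoidHom =
      (prodAct T hcomm (g₂ m)).toMonoidHom.comp (u : MulAut E).toMonoidHom := fun m => by
    refine MonoidHom.ext fun x => ?_
    have h1 : (u : MulAut E) * prodAct T hcomm m = prodAct T hcomm (g₂ m) * (u : MulAut E) := by
      rw [prodAct_apply, prodAct_apply]
      show _ = ((m.1 ^ k : zpowers a) : MulAut E) * (((MulAut.conjNormal u m.2 : T) : S) : MulAut E) * u
      rw [SubmonoidClass.coe_pow, ← hconj, MulAut.conjNormal_apply, Subgroup.coe_mul, Subgroup.coe_mul,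
        Subgroup.coe_inv]
      group
    exact DFunLike.congr_fun h1 x
  let f : E ⋊[prodAct T hcomm] (zpowers a × T) →* E ⋊[prodAct T hcomm] (zpowers a × T) :=
    SemidirectProduct.map (u : MulAut E).toMonoidHom g₂ hcompat
  have hfs : ∀ t, f (inr (⟨a, mem_zpowers a⟩, t)) =
      inr (1, (MulAut.conjNormal u t : T)) * (sEl T hcomm) ^ k := fun t => by
    rw [sEl_pow, SemidirectProduct.map_inr, ← map_mul, Prod.mk_mul_mk, one_mul, mul_one]
    rfl
  have hkr : k.Coprime (orderOf (sEl T hcomm)) := by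
    rw [orderOf_sEl T hcomm ha, Nat.coprime_comm, hr.coprime_iff_not_dvd]
    intro hd
    have h1 : a ^ k = 1 := orderOf_dvd_iff_pow_eq_one.1 (ha.symm ▸ hd)
    rw [h1, conj_eq_one_iff] at hk
    exact hr.one_lt.ne' (by rw [← ha, hk, orderOf_one])
  have hidx := index_bigN T hcomm ha
  have hvp : ∀ t : T, χ (inr (1, t) * (sEl T hcomm) ^ k) = χ (sEl T hcomm) := fun t => by
    rw [CyclicGlauberman.value_pow (hidx ▸ (coprime_of_two T hcomm hr hr2 hP hq).2)
      ((orderOf_sEl T hcomm ha).trans hidx.symm) (h.canonical T hcomm hr hr2 ha hq hP) hkr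
      ((mem_bigN T hcomm).2 rfl) (by
        rw [sEl, ← map_mul, ← map_mul, Prod.mk_mul_mk, Prod.mk_mul_mk, one_mul, mul_one, one_mul, mul_one])]
    rw [sEl, ← map_mul, Prod.mk_mul_mk, one_mul, mul_one]
    exact hn t
  have hfs1 : f (sEl T hcomm) = (sEl T hcomm) ^ k := by
    rw [sEl, hfs, map_one, Prod.mk_one_one, map_one, one_mul]
    rfl
  have hgood : IsGood T hcomm z (χ ∘ f) := by
    refine ⟨h.ext.comp_map hq (u : MulAut E) g₂ hcompat, ?_⟩
    rw [dHom_comp h.ext.char, MonoidHom.comp_apply, hfs1, map_pow, h.det, one_pow]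
  have heq := normalised_unique T hcomm hr hr2 ha hq hP hfix h hgood hn fun t => by
    show χ (f _) = χ (f _)
    rw [hfs, hvp, hfs1]
    refine (hvp 1).symm.trans (congrArg χ ?_)
    rw [Prod.mk_one_one, map_one, one_mul]
  have hjf : f (j g) = j (cjT S.subtype T u g) := by
    refine SemidirectProduct.ext ?_ (Prod.ext ?_ ?_)
    · rfl
    · show (1 : zpowers a) ^ k = 1
      rw [one_pow]
    · rfl
  show χ (j (cjT S.subtype T u g)) = χ (j g)
  rw [← hjf]
  exact congrFun heq (j g)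

end Setting

end CfsgLib.Char.ExtraspecialExt
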