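import Cfsg.Agent.Lib.Char.ExtraspecialExt.Quad
import Cfsg.Agent.Lib.Char.Extension
import Cfsg.Agent.Lib.CharNormal.Gallagher
import Mathlib.GroupTheory.SemidirectProduct

/-!
Characters of semidirect products extending the faithful irreducible character of such a two-group.
-/

set_option autoImplicit false

namespace CfsgLib.Char.ExtraspecialExt

open Subgroup CfsgLib.Char CfsgLib.CharNormal SemidirectProduct
open scoped ComplexConjugate

universe u v w

variable {E : Type u} [Group E] {T : Type v} [Group T] {φ : T →* MulAut E}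

scoped instance finite_sdp [Finite E] [Finite T] : Finite (E ⋊[φ] T) :=
  Finite.of_equiv _ SemidirectProduct.equivProd.symm

scoped instance finite_aut [Finite E] : Finite (MulAut E) :=
  Finite.of_injective (fun f => (f : E → E)) DFunLike.coe_injective

/-- The faithful fully ramified character. -/
structure IsFr (z : E) (f : E → ℂ) : Prop where
  char : Cfsg.IsCharacter E f
  card : ∃ d : ℕ, 2 * d ^ 2 = Nat.card E ∧ f 1 = (d : ℂ) ∧ f z = -(d : ℂ)
  vanish : ∀ x, x ≠ 1 → x ≠ z → f x = 0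

/-- An extension of that character to a semidirect product. -/
structure IsExt (z : E) (φ : T →* MulAut E) (η : E ⋊[φ] T → ℂ) : Prop where
  char : Cfsg.IsCharacter (E ⋊[φ] T) η
  fr : IsFr z (fun x => η (inl x))

variable [Finite E] {z : E}

theorem IsFr.apply (hq : Quad z) {f g : E → ℂ} (hf : IsFr z f) (hg : IsFr z g) : f = g := by
  obtain ⟨d, hd, hf1, hfz⟩ := hf.card
  obtain ⟨e, he, hg1, hgz⟩ := hg.card
  obtain rfl : d = e := by nlinarith
  funext x
  by_cases h1 : x = 1
  · rw [h1, hf1, hg1]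
  by_cases h2 : x = z
  · rw [h2, hfz, hgz]
  rw [hf.vanish x h1 h2, hg.vanish x h1 h2]

theorem IsFr.irr (hq : Quad z) {f : E → ℂ} (hf : IsFr z f) : Cfsg.IsIrrCharacter E f := by
  classical
  haveI := Fintype.ofFinite E
  obtain ⟨d, hd, hf1, hfz⟩ := hf.card
  refine irr_of_norm_one hf.char ?_
  refine mul_left_cancel₀ (card_ne_zero' (G := E)) ?_
  rw [card_mul_classInner, mul_one,
    Finset.sum_eq_add (1 : E) z (Ne.symm hq.z_ne) (fun x _ hx => by rw [hf.vanish x hx.1 hx.2, zero_mul])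
      (fun h => absurd (Finset.mem_univ _) h) (fun h => absurd (Finset.mem_univ _) h),
    hf1, hfz, ← hd]
  simp only [map_neg, Complex.conj_natCast]
  push_cast
  ring

theorem IsFr.aut_apply (hq : Quad z) {f : E → ℂ} (hf : IsFr z f) (α : MulAut E) (x : E) : f (α x) = f x := by
  obtain ⟨d, hd, hf1, hfz⟩ := hf.card
  by_cases h1 : x = 1
  · rw [h1, map_one]
  by_cases h2 : x = z
  · rw [h2, aut_fix hq]
  rw [hf.vanish x h1 h2, hf.vanish _ (fun h => h1 ((MulEquiv.map_eq_one_iff α).1 h))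
    (fun h => h2 (α.injective (h.trans (aut_fix hq α).symm)))]

/-- A central element with value minus the degree negates the character. -/
theorem mul_neg_of_apply {X : Type w} [Group X] [Finite X] {η : X → ℂ} (hη : Cfsg.IsCharacter X η) {c : X}
    (h1 : η 1 ≠ 0) (hc : η c = -η 1) (g : X) : η (g * c) = -η g := by
  obtain ⟨n, ρ, rfl⟩ := hη
  have hn : ρ.character 1 = (n : ℂ) := by simp
  obtain ⟨ω, hω⟩ := (norm_character_eq_iff ρ c).1 (by rw [hc, hn, norm_neg]; simp)
  have hmul : ∀ h : X, ρ.character (h * c) = ω * ρ.character h := fun h => by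
    show LinearMap.trace ℂ _ (ρ (h * c)) = ω * LinearMap.trace ℂ _ (ρ h)
    rw [map_mul, hω, Module.End.mul_eq_comp, LinearMap.comp_smul, LinearMap.comp_id, map_smul, smul_eq_mul]
  have hω1 : ω = -1 := by
    have := hmul 1
    rw [one_mul, hc] at this
    refine mul_right_cancel₀ h1 ?_
    rw [← this]; ring
  rw [hmul, hω1]; ring

/-- An irreducible character whose kernel does not contain `z` is that character. -/
theorem fr_of_ne (hq : Quad z) (χ : Cfsg.IrrCharacter E) (hχz : (χ : E → ℂ) z ≠ (χ : E → ℂ) 1) :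
    IsFr z (χ : E → ℂ) := by
  classical
  haveI := Fintype.ofFinite E
  have hc := isCharacter_of_isIrr χ.2
  obtain ⟨d, hdpos, hd⟩ := exists_degree_pos χ.2
  have hχ1 : (χ : E → ℂ) 1 ≠ 0 := irr_one_ne_zero χ.2
  obtain ⟨n, ρ, hirr, hρ⟩ := χ.2
  obtain ⟨ω, hω⟩ := exists_eq_smul_id ρ (ρ z) fun g => by
    rw [← Module.End.mul_eq_comp, ← Module.End.mul_eq_comp, ← map_mul, ← map_mul, (hq.central g).eq]
  have hn : (χ : E → ℂ) 1 = (n : ℂ) := by rw [← hρ]; simp
  have hmul : ∀ h : E, (χ : E → ℂ) (h * z) = ω * (χ : E → ℂ) h := fun h => by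
    rw [← hρ]
    show LinearMap.trace ℂ _ (ρ (h * z)) = ω * LinearMap.trace ℂ _ (ρ h)
    rw [map_mul, hω, Module.End.mul_eq_comp, LinearMap.comp_smul, LinearMap.comp_id, map_smul, smul_eq_mul]
  have hz : (χ : E → ℂ) z = -(χ : E → ℂ) 1 := by
    have h1 := hmul z
    have h2 := hmul 1
    rw [hq.z_mul] at h1
    rw [one_mul] at h2
    rw [h2, ← mul_assoc] at h1
    have hω2 : ω * ω = 1 := (mul_eq_right₀ hχ1).1 h1.symm
    rcases mul_self_eq_one_iff.1 hω2 with h | h
    · exact absurd (by rw [h2, h, one_mul]) hχz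
    · rw [h2, h]; ring
  have hneg := mul_neg_of_apply hc hχ1 hz
  have hvan : ∀ x, x ≠ 1 → x ≠ z → (χ : E → ℂ) x = 0 := by
    intro x hx1 hxz
    obtain ⟨y, hy⟩ : ∃ y, y * x * y⁻¹ * x⁻¹ = z := by
      by_contra h
      push Not at h
      rcases hq.center x (fun y => ((hq.comm y x).resolve_right (h y) |> fun e =>
          (mul_inv_eq_iff_eq_mul.1 (mul_inv_eq_one.1 e)).symm)) with h' | h'
      · exact hx1 h'
      · exact hxz h'
    have h1 : (χ : E → ℂ) (y * x * y⁻¹) = (χ : E → ℂ) x := isClassFunction_of_isIrr χ.2 x y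
    rw [show y * x * y⁻¹ = z * x by rw [← hy, inv_mul_cancel_right], (hq.central x).eq, hneg] at h1
    linear_combination (-(1 : ℂ) / 2) * h1
  refine ⟨hc, ⟨d, ?_, hd, by rw [hz, hd]⟩, hvan⟩
  have h := card_mul_classInner (χ : E → ℂ) (χ : E → ℂ)
  rw [classInner_irr_self χ.2, mul_one, Finset.sum_eq_add (1 : E) z (Ne.symm hq.z_ne)
    (fun x _ hx => by rw [hvan x hx.1 hx.2, zero_mul])
    (fun h => absurd (Finset.mem_univ _) h) (fun h => absurd (Finset.mem_univ _) h), hz, hd] at h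
  simp only [map_neg, Complex.conj_natCast] at h
  have : ((2 * d ^ 2 : ℕ) : ℂ) = (Nat.card E : ℂ) := by rw [h]; push_cast; ring
  exact_mod_cast this

/-- The character exists. -/
theorem exists_fr (hq : Quad z) : ∃ f : E → ℂ, IsFr z f := by
  classical
  haveI := Fintype.ofFinite E
  obtain ⟨χ, hχz⟩ : ∃ χ : Cfsg.IrrCharacter E, (χ : E → ℂ) z ≠ (χ : E → ℂ) 1 := by
    by_contra h
    push Not at h
    obtain ⟨g, hg⟩ := isConj_iff.1 ((isConj_iff_forall_irr z 1).2 h)
    exact hq.z_ne (conj_eq_one_iff.1 hg)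
  exact ⟨_, fr_of_ne hq χ hχz⟩

/-- Twisting by a linear character of the acting group. -/
def tw (φ : T →* MulAut E) (l : T →* ℂˣ) : E ⋊[φ] T → ℂ := fun g => (l g.right : ℂ)

theorem tw_inl (l : T →* ℂˣ) (x : E) : tw φ l (inl x) = 1 := by simp [tw]

theorem tw_inr (l : T →* ℂˣ) (t : T) : tw φ l (inr t) = (l t : ℂ) := by simp [tw]

theorem tw_mul (l l' : T →* ℂˣ) : tw φ l * tw φ l' = tw φ (l * l') :=
  funext fun g => by simp [tw]

theorem tw_eq (l : T →* ℂˣ) : tw φ l = linFun (l.comp rightHom) := rfl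

theorem IsExt.one_eq {η : E ⋊[φ] T → ℂ} (h : IsExt z φ η) : ∃ d : ℕ, 2 * d ^ 2 = Nat.card E ∧
    η 1 = (d : ℂ) ∧ η (inl z) = -(d : ℂ) := by
  obtain ⟨d, hd, h1, hz⟩ := h.fr.card
  exact ⟨d, hd, by simpa using h1, hz⟩

theorem IsExt.one_ne {η : E ⋊[φ] T → ℂ} (h : IsExt z φ η) : η 1 ≠ 0 := by
  obtain ⟨d, hd, h1, -⟩ := h.one_eq
  rw [h1, Nat.cast_ne_zero]
  rintro rfl
  have := Nat.card_pos (α := E)
  omega

variable [Finite T]

theorem IsExt.mul_z {η : E ⋊[φ] T → ℂ} (h : IsExt z φ η) (g : E ⋊[φ] T) : η (g * inl z) = -η g := by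
  obtain ⟨d, -, h1, hz⟩ := h.one_eq
  exact mul_neg_of_apply h.char h.one_ne (by rw [hz, h1]) g

theorem IsExt.twist {η : E ⋊[φ] T → ℂ} (h : IsExt z φ η) (l : T →* ℂˣ) : IsExt z φ (η * tw φ l) where
  char := isCharacter_mul h.char (by rw [tw_eq]; exact (isCharacter_linFun _).1)
  fr := by
    have : (fun x => (η * tw φ l) (inl x)) = fun x => η (inl x) :=
      funext fun x => by rw [Pi.mul_apply, tw_inl, mul_one]
    rw [this]; exact h.fr

omit [Finite T] in
theorem range_inl_normal : (inl (φ := φ)).range.Normal := by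
  rw [range_inl_eq_ker_rightHom]; infer_instance

theorem IsExt.res_irr (hq : Quad z) {η : E ⋊[φ] T → ℂ} (h : IsExt z φ η) :
    Cfsg.IsIrrCharacter (inl (φ := φ)).range (fun n => η n) := by
  haveI := Fintype.ofFinite E
  haveI := Fintype.ofFinite (inl (φ := φ)).range
  let e : E ≃* (inl (φ := φ)).range := MonoidHom.ofInjective inl_injective
  refine (isIrr_comp_mulEquiv_iff e).1 ?_
  exact h.fr.irr hq

theorem IsExt.irr (hq : Quad z) {η : E ⋊[φ] T → ℂ} (h : IsExt z φ η) :
    Cfsg.IsIrrCharacter (E ⋊[φ] T) η := by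
  haveI := range_inl_normal (φ := φ)
  obtain ⟨d, ρ, rfl⟩ := h.char
  haveI := Fintype.ofFinite (inl (φ := φ)).range
  let ρN : Representation ℂ (inl (φ := φ)).range (Fin d → ℂ) := ρ.comp (inl (φ := φ)).range.subtype
  haveI : ρN.IsIrreducible := isIrreducible_of_isIrrCharacter ρN (h.res_irr hq)
  exact (isIrr_of_extends (ρ := ρN) ρ fun _ => rfl).1

/-- Two extensions differ by a linear character of the acting group. -/
theorem IsExt.exists_twist (hq : Quad z) {η η' : E ⋊[φ] T → ℂ} (h : IsExt z φ η) (h' : IsExt z φ η') :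
    ∃ l : T →* ℂˣ, η' = η * tw φ l := by
  haveI := range_inl_normal (φ := φ)
  haveI := Fintype.ofFinite (E ⋊[φ] T)
  haveI := Fintype.ofFinite (inl (φ := φ)).range
  have heq : ∀ n : (inl (φ := φ)).range, η' n = η n := by
    rintro ⟨_, x, rfl⟩
    exact congrFun (IsFr.apply hq h'.fr h.fr) x
  obtain ⟨lam, hlam, hlam1, hlamN, hl⟩ :=
    exists_linear_eq_mul_of_extensions (inl (φ := φ)).range h.char h'.char (h.res_irr hq) heq
  refine ⟨(linearHom hlam hlam1).comp inr, hl.trans ?_⟩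
  congr 1
  funext g
  show lam g = ((linearHom hlam hlam1) (inr g.right) : ℂ)
  rw [linearHom_apply]
  conv_lhs => rw [← inl_left_mul_inr_right g, linear_map_mul hlam hlam1, hlamN _ ⟨_, rfl⟩, one_mul]

/-- The twist is determined by its effect. -/
theorem IsExt.twist_inj (hq : Quad z) {η : E ⋊[φ] T → ℂ} (h : IsExt z φ η) {l : T →* ℂˣ}
    (hl : η * tw φ l = η) : l = 1 := by
  classical
  haveI := Fintype.ofFinite (E ⋊[φ] T)
  haveI := Fintype.ofFinite (inl (φ := φ)).range
  refine MonoidHom.ext fun t => ?_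
  by_contra hne
  have hsum := sum_normSq_coset (inl (φ := φ)).range h.char (h.res_irr hq) (inr t)
  rw [Finset.sum_eq_zero] at hsum
  · exact card_ne_zero' (G := (inl (φ := φ)).range) hsum.symm
  rintro ⟨_, x, rfl⟩ -
  have hv : η (inr t * inl x) = 0 := by
    have h1 := congrFun hl (inr t * inl x)
    rw [Pi.mul_apply, show tw φ l (inr t * inl x) = (l t : ℂ) by simp [tw]] at h1
    by_contra h0
    exact hne (Units.ext ((mul_eq_left₀ h0).1 h1))
  rw [hv, zero_mul]

/-- Pulling back along a homomorphism of the acting groups. -/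
theorem IsExt.pullback {T' : Type w} [Group T'] [Finite T'] {φ' : T' →* MulAut E} {η : E ⋊[φ] T → ℂ}
    (h : IsExt z φ η) (g : T' →* T) (hg : ∀ t, φ (g t) = φ' t) :
    IsExt z φ' (η ∘ SemidirectProduct.map (φ₁ := φ') (φ₂ := φ) (MonoidHom.id E) g
      (fun t => MonoidHom.ext fun x => by simp [hg t])) where
  char := isCharacter_comp h.char _
  fr := by simpa [Function.comp_def] using h.fr

omit [Finite T] in
/-- The trivial group. -/
theorem exists_ext_of_subsingleton [Subsingleton T] (hq : Quad z) : ∃ η, IsExt z φ η := by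
  obtain ⟨f, hf⟩ := exists_fr hq
  let p : E ⋊[φ] T →* E := SemidirectProduct.lift (MonoidHom.id E) 1 fun t => MonoidHom.ext fun x => by
    rw [Subsingleton.elim t 1]; simp
  refine ⟨f ∘ p, isCharacter_comp hf.char p, ?_⟩
  have : (fun x => (f ∘ p) (inl x)) = f := funext fun x => by simp [p]
  rw [this]; exact hf

end CfsgLib.Char.ExtraspecialExt
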