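import Cfsg.Agent.Lib.Char.ExtraspecialExt.Orbit
import Mathlib.GroupTheory.IndexNormal

/-!
The step for an abelian group of automorphisms with a non-identity element fixing a non-central element.
-/

set_option autoImplicit false

namespace CfsgLib.Char.ExtraspecialExt

open Subgroup CfsgLib.Char SemidirectProduct

universe u

theorem IsFr.comp_equiv {E E' : Type u} [Group E] [Group E'] {z : E} {z' : E'}
    {f : E → ℂ} (hf : IsFr z f) (e : E' ≃* E) (hz : e z' = z) : IsFr z' (fun x => f (e x)) where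
  char := isCharacter_comp hf.char e.toMonoidHom
  card := by
    obtain ⟨d, hd, h1, h2⟩ := hf.card
    exact ⟨d, hd.trans (Nat.card_congr e.toEquiv).symm, by simpa using h1, by rw [hz]; exact h2⟩
  vanish x h1 h2 := hf.vanish _ (fun h => h1 ((MulEquiv.map_eq_one_iff e).1 h))
    fun h => h2 (e.injective (h.trans hz.symm))

variable {E : Type u} [Group E] [Finite E] {z : E}

theorem normal_of_z_mem (hq : Quad z) {U : Subgroup E} (hz : z ∈ U) : U.Normal := ⟨fun x hx g => by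
  have h : g * x * g⁻¹ * x⁻¹ ∈ U := by
    rcases hq.comm g x with h | h <;> rw [h]
    · exact one_mem U
    · exact hz
  simpa using mul_mem h hx⟩

/-- Two subgroups interchanged by the two-group, with an extension on the stabiliser of index two. -/
theorem swap_ext (hq : Quad z) (S : Subgroup (MulAut E)) (S₁ : Subgroup S) (hidx : S₁.index = 2)
    (E₁ E₂ : Subgroup E) (hz₁ : z ∈ E₁) (hz₂ : z ∈ E₂) (hc : ∀ x ∈ E₁, ∀ y ∈ E₂, Commute x y)
    (hgen : ∀ e, ∃ x ∈ E₁, ∃ y ∈ E₂, e = x * y) (hint : ∀ x ∈ E₁, x ∈ E₂ → x = 1 ∨ x = z)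
    (h₁ : ∀ t : S₁, ∀ x ∈ E₁, (S.subtype.comp S₁.subtype) t x ∈ E₁)
    (h₂ : ∀ t : S₁, ∀ x ∈ E₂, (S.subtype.comp S₁.subtype) t x ∈ E₂)
    (h₁₂ : ∀ u : S, u ∉ S₁ → ∀ x ∈ E₁, (u : MulAut E) x ∈ E₂)
    (h₂₁ : ∀ u : S, u ∉ S₁ → ∀ x ∈ E₂, (u : MulAut E) x ∈ E₁)
    {η₁ : E₁ ⋊[resHom (S.subtype.comp S₁.subtype) E₁ h₁] S₁ → ℂ}
    (hη₁ : IsExt (⟨z, hz₁⟩ : E₁) (resHom (S.subtype.comp S₁.subtype) E₁ h₁) η₁) :
    ∃ η, IsExt z S.subtype η := by
  classical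
  haveI := normal_of_index_eq_two hidx
  haveI : IsCyclic (S ⧸ S₁) := by
    haveI : Fact (Nat.Prime 2) := ⟨Nat.prime_two⟩
    exact isCyclic_of_prime_card (p := 2) hidx
  obtain ⟨s, hs⟩ : ∃ s : S, s ∉ S₁ := by
    by_contra h
    push Not at h
    rw [(eq_top_iff.2 fun x _ => h x : S₁ = ⊤), index_top] at hidx
    exact absurd hidx (by norm_num)
  have hsi : s⁻¹ ∉ S₁ := fun h => hs (inv_mem_iff.1 h)
  let e₂ : E₂ ≃* E₁ :=
    { toFun := fun y => ⟨((s⁻¹ : S) : MulAut E) y, h₂₁ _ hsi y y.2⟩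
      invFun := fun x => ⟨(s : MulAut E) x, h₁₂ s hs x x.2⟩
      left_inv := fun y => Subtype.ext (by
        show (s : MulAut E) (((s⁻¹ : S) : MulAut E) y) = y
        rw [Subgroup.coe_inv, ← MulAut.mul_apply, mul_inv_cancel, MulAut.one_apply])
      right_inv := fun x => Subtype.ext (by
        show ((s⁻¹ : S) : MulAut E) ((s : MulAut E) x) = x
        rw [Subgroup.coe_inv, ← MulAut.mul_apply, inv_mul_cancel, MulAut.one_apply])
      map_mul' := fun y y' => Subtype.ext (map_mul ((s⁻¹ : S) : MulAut E) (y : E) y') }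
  have he₂z : e₂ ⟨z, hz₂⟩ = ⟨z, hz₁⟩ := Subtype.ext (aut_fix hq _)
  let f₂ : E₂ ⋊[resHom (S.subtype.comp S₁.subtype) E₂ h₂] S₁ →*
      E₁ ⋊[resHom (S.subtype.comp S₁.subtype) E₁ h₁] S₁ :=
    SemidirectProduct.map e₂.toMonoidHom (MulAut.conjNormal s⁻¹ : S₁ ≃* S₁).toMonoidHom fun t =>
      MonoidHom.ext fun y => Subtype.ext (by
        show ((s⁻¹ : S) : MulAut E) (((t : S) : MulAut E) y) =
          (((MulAut.conjNormal s⁻¹ t : S₁) : S) : MulAut E) (((s⁻¹ : S) : MulAut E) y)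
        rw [MulAut.conjNormal_apply, inv_inv, Subgroup.coe_mul, Subgroup.coe_mul, Subgroup.coe_inv,
          ← MulAut.mul_apply, ← MulAut.mul_apply, mul_inv_cancel_right])
  have hη₂ : IsExt (⟨z, hz₂⟩ : E₂) (resHom (S.subtype.comp S₁.subtype) E₂ h₂) (η₁ ∘ f₂) := by
    refine ⟨isCharacter_comp hη₁.char f₂, ?_⟩
    have : (fun y => (η₁ ∘ f₂) (inl y)) = fun y => η₁ (inl (e₂ y)) := funext fun y => by
      rw [Function.comp_apply, SemidirectProduct.map_inl]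
      rfl
    rw [this]
    exact hη₁.fr.comp_equiv e₂ he₂z
  obtain ⟨η, hη, hval⟩ := product (S.subtype.comp S₁.subtype) hq hz₁ hz₂ hc hgen hint h₁ h₂ hη₁ hη₂
  have hinv : ∀ g, η (cjT S.subtype S₁ s g) = η g := by
    rintro ⟨e, t⟩
    obtain ⟨x, hx, y, hy, rfl⟩ := hgen e
    have hsy : (s : MulAut E) y ∈ E₁ := h₂₁ s hs y hy
    have hsx : (s : MulAut E) x ∈ E₂ := h₁₂ s hs x hx
    have hg : cjT S.subtype S₁ s ⟨x * y, t⟩ =
        ⟨((⟨_, hsy⟩ : E₁) : E) * ((⟨_, hsx⟩ : E₂) : E), MulAut.conjNormal s t⟩ := by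
      rw [cjT_apply]
      refine SemidirectProduct.ext ?_ rfl
      show (s : MulAut E) (x * y) = (s : MulAut E) y * (s : MulAut E) x
      rw [map_mul]
      exact ((hc _ hsy _ hsx).eq).symm
    rw [hg, hval, hval ⟨x, hx⟩ ⟨y, hy⟩, mul_comm]
    congr 1
    · rw [Function.comp_apply]
      congr 1
      refine SemidirectProduct.ext (Subtype.ext ?_) ?_
      · show ((s⁻¹ : S) : MulAut E) ((s : MulAut E) x) = x
        rw [Subgroup.coe_inv, ← MulAut.mul_apply, inv_mul_cancel, MulAut.one_apply]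
      · show MulAut.conjNormal s⁻¹ (MulAut.conjNormal s t) = t
        rw [← MulAut.mul_apply, ← map_mul, inv_mul_cancel, map_one, MulAut.one_apply]
    · rw [Function.comp_apply]
      let q : S₁ := ⟨s * s, (mul_mem_iff_of_index_two hidx).2 Iff.rfl⟩
      rw [← isClassFunction_of_isCharacter hη₁.char (f₂ ⟨⟨y, hy⟩, t⟩) (inr q)]
      congr 1
      refine SemidirectProduct.ext (Subtype.ext ?_) (Subtype.ext ?_)
      · simp only [mul_left, inv_left, right_inr, left_inr, mul_right, inv_right, map_one, one_mul, mul_one,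
          inv_one]
        show (s : MulAut E) y = ((s * s : S) : MulAut E) (((s⁻¹ : S) : MulAut E) y)
        rw [← MulAut.mul_apply, Subgroup.coe_mul, Subgroup.coe_inv, mul_inv_cancel_right]
      · show (s : S) * t * s⁻¹ = s * s * (s⁻¹ * t * s⁻¹⁻¹) * (s * s)⁻¹
        group
  obtain ⟨χ, hχ, -⟩ := ext_step S.subtype S₁ hq hη fun m g => by
    by_cases hm : m ∈ S₁
    · exact cjT_self S.subtype S₁ hη.char ⟨m, hm⟩ g
    · have hst : s⁻¹ * m ∈ S₁ := (mul_mem_iff_of_index_two hidx).2 ⟨fun h => absurd h hsi, fun h => absurd h hm⟩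
      rw [← mul_inv_cancel_left s m, cjT_mul, hinv]
      exact cjT_self S.subtype S₁ hη.char ⟨_, hst⟩ g
  exact ⟨χ, hχ⟩

/-- The step. -/
theorem orbit_ext (hq : Quad z) (IH : ∀ m < Nat.card E, HasExts.{u} m)
    (A : Subgroup (MulAut E)) (hA : Odd (Nat.card A)) (hAc : ∀ a ∈ A, ∀ b ∈ A, Commute a b)
    (S : Subgroup (MulAut E)) (hP : IsPGroup 2 S) (hSA : ∀ u ∈ S, ∀ k ∈ A, u * k * u⁻¹ ∈ A)
    (hfix : ∀ x : E, (∀ k ∈ A, k x = x) → x = 1 ∨ x = z)
    (hex : ∃ a ∈ A, a ≠ 1 ∧ ∃ x, a x = x ∧ x ≠ 1 ∧ x ≠ z) : ∃ η, IsExt z S.subtype η := by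
  classical
  haveI : Fintype (Subgroup (MulAut E)) := Fintype.ofFinite _
  -- a maximal subgroup with a non-central fixed element
  let F : Finset (Subgroup (MulAut E)) := Finset.univ.filter fun C =>
    C ≤ A ∧ C ≠ ⊥ ∧ ∃ x ∈ fixedSub C, x ≠ 1 ∧ x ≠ z
  obtain ⟨B, hBF, hBmax⟩ := F.exists_max_image (fun C => Nat.card C) (by
    obtain ⟨a, ha, ha1, x, hx, hx1, hxz⟩ := hex
    refine ⟨zpowers a, Finset.mem_filter.2 ⟨Finset.mem_univ _, zpowers_le.2 ha, zpowers_ne_bot.2 ha1, x,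
      ?_, hx1, hxz⟩⟩
    have hle : zpowers a ≤ MulAction.stabilizer (MulAut E) x := zpowers_le.2 hx
    exact fun b hb => hle hb)
  obtain ⟨-, hBA, hB1, xB, hxB, hxB1, hxBz⟩ := Finset.mem_filter.1 hBF
  let O : Finset (Subgroup (MulAut E)) := Finset.univ.filter fun C => ∃ u ∈ S, C = cjSub u B
  have hmem : ∀ {C}, C ∈ O ↔ ∃ u ∈ S, C = cjSub u B := fun {C} => by simp [O]
  have hOA : ∀ C ∈ O, C ≤ A := fun C hC => by
    obtain ⟨u, hu, rfl⟩ := hmem.1 hC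
    rintro _ ⟨b, hb, rfl⟩
    exact hSA u hu b (hBA hb)
  have hOcard : ∀ C ∈ O, Nat.card C = Nat.card B := fun C hC => by
    obtain ⟨u, hu, rfl⟩ := hmem.1 hC
    exact card_map_of_injective (MulAut.conj u).injective
  have hcom : ∀ C ∈ O, ∀ C' ∈ O, C ≠ C' → ∀ x ∈ fixedSub C, ∀ y ∈ fixedSub C', Commute x y :=
    fun C hC C' hC' hne => fixedSub_commute hq A hA hAc (hOA C hC) (hOA C' hC') hne
      (fun D h1 h2 h3 => hOcard C hC ▸ hBmax D (Finset.mem_filter.2 ⟨Finset.mem_univ _, h1, h2, h3⟩))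
      ((hOcard C' hC').trans (hOcard C hC).symm)
  have hBO : B ∈ O := hmem.2 ⟨1, one_mem S, (cjSub_one B).symm⟩
  have hcjA : ∀ k ∈ A, ∀ C ∈ O, cjSub k C = C := fun k hk C hC => by
    refine eq_of_le_of_card_ge ?_ (card_map_of_injective (MulAut.conj k).injective).ge
    rintro _ ⟨b, hb, rfl⟩
    show k * b * k⁻¹ ∈ C
    rw [(hAc k hk b (hOA C hC hb)).eq, mul_inv_cancel_right]
    exact hb
  have hOodd : ∀ C ∈ O, Odd (Nat.card C) := fun C hC => hA.of_dvd_nat (card_dvd_of_le (hOA C hC))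
  have hzO : ∀ O' : Finset (Subgroup (MulAut E)), O'.Nonempty → z ∈ joinFix O' := fun O' ⟨C, hC⟩ =>
    le_joinFix hC (z_mem_fixedSub hq C)
  have hAinv : ∀ O' : Finset (Subgroup (MulAut E)), O' ⊆ O → ∀ k ∈ A, ∀ x ∈ joinFix O', k x ∈ joinFix O' :=
    fun O' hO' k hk => joinFix_map fun C hC => (hcjA k hk C (hO' hC)).symm ▸ hC
  by_cases hU : joinFix O = ⊤
  swap
  · refine split_ext S.subtype hq IH hP A hA (fun t => hSA t t.2) hfix (joinFix O) (hzO O ⟨B, hBO⟩)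
      (joinFix_dec hq O hOodd hcom) hU ⟨xB, le_joinFix hBO hxB, hxB1, hxBz⟩
      (fun t => joinFix_map fun C hC => ?_) (hAinv O subset_rfl)
    obtain ⟨u, hu, rfl⟩ := hmem.1 hC
    exact hmem.2 ⟨(t : MulAut E) * u, mul_mem t.2 hu, (cjSub_mul _ _ B).symm⟩
  -- the stabiliser
  let St : Subgroup S :=
    { carrier := {u | cjSub (u : MulAut E) B = B}
      one_mem' := cjSub_one B
      mul_mem' := fun {u v} (hu : cjSub ((u : S) : MulAut E) B = B) (hv : cjSub ((v : S) : MulAut E) B = B) => by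
        show cjSub (((u : S) : MulAut E) * ((v : S) : MulAut E)) B = B
        rw [cjSub_mul, hv, hu]
      inv_mem' := fun {u} (hu : cjSub ((u : S) : MulAut E) B = B) => by
        show cjSub (((u : S) : MulAut E)⁻¹) B = B
        conv_lhs => rw [← hu, ← cjSub_mul, inv_mul_cancel, cjSub_one] }
  have hSt : St ≠ ⊤ := by
    intro h
    have hle : joinFix O ≤ fixedSub B := Finset.sup_le fun C hC => by
      obtain ⟨u, hu, rfl⟩ := hmem.1 hC
      rw [show cjSub u B = B from (h ▸ mem_top _ : (⟨u, hu⟩ : S) ∈ St)]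
    rw [hU] at hle
    exact hB1 ((eq_bot_iff_forall _).2 fun b hb => MulEquiv.ext fun x => hle (mem_top x) b hb)
  haveI : Fact (Nat.Prime 2) := ⟨Nat.prime_two⟩
  obtain ⟨i, hi⟩ := IsPGroup.iff_card.1 hP
  obtain ⟨j, hj⟩ := IsPGroup.iff_card.1 (hP.to_subgroup St)
  have hji : j < i := by
    have h1 := St.card_le_card_group.lt_of_ne fun he => hSt (St.eq_top_of_card_eq he)
    rw [hi, hj] at h1
    exact (Nat.pow_lt_pow_iff_right (by norm_num)).1 h1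
  obtain ⟨S₁, hS₁, hle⟩ := Sylow.exists_subgroup_card_pow_prime_le (G := S) 2
    (hi ▸ pow_dvd_pow 2 (Nat.sub_le i 1)) St hj (Nat.le_sub_one_of_lt hji)
  have hidx : S₁.index = 2 := by
    have h1 := S₁.card_mul_index
    rw [hS₁, hi, show 2 ^ i = 2 ^ (i - 1) * 2 by rw [← pow_succ, Nat.sub_add_cancel (by omega : 1 ≤ i)]] at h1
    exact Nat.eq_of_mul_eq_mul_left (by positivity) h1
  let O₁ : Finset (Subgroup (MulAut E)) := O.filter fun C => ∃ u : S, u ∈ S₁ ∧ C = cjSub (u : MulAut E) B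
  let O₂ : Finset (Subgroup (MulAut E)) := O.filter fun C => ∃ u : S, u ∉ S₁ ∧ C = cjSub (u : MulAut E) B
  have hO₁ : ∀ {C}, C ∈ O₁ ↔ ∃ u : S, u ∈ S₁ ∧ C = cjSub (u : MulAut E) B := fun {C} =>
    ⟨fun h => (Finset.mem_filter.1 h).2, fun h => Finset.mem_filter.2
      ⟨hmem.2 (by obtain ⟨u, -, h⟩ := h; exact ⟨u, u.2, h⟩), h⟩⟩
  have hO₂ : ∀ {C}, C ∈ O₂ ↔ ∃ u : S, u ∉ S₁ ∧ C = cjSub (u : MulAut E) B := fun {C} =>
    ⟨fun h => (Finset.mem_filter.1 h).2, fun h => Finset.mem_filter.2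
      ⟨hmem.2 (by obtain ⟨u, -, h⟩ := h; exact ⟨u, u.2, h⟩), h⟩⟩
  have hdisj : ∀ C ∈ O₁, C ∉ O₂ := fun C h1 h2 => by
    obtain ⟨u, hu, rfl⟩ := hO₁.1 h1
    obtain ⟨v, hv, h⟩ := hO₂.1 h2
    refine hv ?_
    have h3 : u⁻¹ * v ∈ S₁ := hle (show cjSub (((u⁻¹ * v : S)) : MulAut E) B = B by
      rw [Subgroup.coe_mul, cjSub_mul, ← h, ← cjSub_mul, Subgroup.coe_inv, inv_mul_cancel, cjSub_one])
    simpa using mul_mem hu h3
  have hmul : ∀ (u C : S), cjSub (u : MulAut E) (cjSub (C : MulAut E) B) = cjSub ((u * C : S) : MulAut E) B :=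
    fun u C => by rw [← cjSub_mul, Subgroup.coe_mul]
  have hc : ∀ x ∈ joinFix O₁, ∀ y ∈ joinFix O₂, Commute x y := fun x hx y hy =>
    joinFix_commute (fun C hC x' hx' => (joinFix_commute (fun C' hC' y' hy' =>
      (hcom C (Finset.mem_of_mem_filter C hC) C' (Finset.mem_of_mem_filter C' hC')
        (fun e => hdisj C hC (e ▸ hC')) x' hx' y' hy').symm) y hy).symm) x hx
  have hne₁ : O₁.Nonempty := ⟨B, hO₁.2 ⟨1, one_mem _, (cjSub_one B).symm⟩⟩
  have hne₂ : O₂.Nonempty := by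
    obtain ⟨s, hs⟩ : ∃ s : S, s ∉ S₁ := by
      by_contra h
      push Not at h
      rw [(eq_top_iff.2 fun x _ => h x : S₁ = ⊤), index_top] at hidx
      exact absurd hidx (by norm_num)
    exact ⟨_, hO₂.2 ⟨s, hs, rfl⟩⟩
  haveI := normal_of_z_mem hq (hzO O₁ hne₁)
  have hsup : joinFix O₁ ⊔ joinFix O₂ = ⊤ := by
    refine eq_top_iff.2 (hU ▸ Finset.sup_le fun C hC => ?_)
    obtain ⟨u, hu, h⟩ := hmem.1 hC
    by_cases hu1 : (⟨u, hu⟩ : S) ∈ S₁
    · exact (le_joinFix (hO₁.2 ⟨_, hu1, h⟩)).trans le_sup_left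
    · exact (le_joinFix (hO₂.2 ⟨_, hu1, h⟩)).trans le_sup_right
  have hgen : ∀ e, ∃ x ∈ joinFix O₁, ∃ y ∈ joinFix O₂, e = x * y := fun e => by
    obtain ⟨x, hx, y, hy, h⟩ := mem_sup_of_normal_left.1 (hsup ▸ mem_top e)
    exact ⟨x, hx, y, hy, h.symm⟩
  have h₁ : ∀ t : S₁, ∀ x ∈ joinFix O₁, (S.subtype.comp S₁.subtype) t x ∈ joinFix O₁ := fun t =>
    joinFix_map fun C hC => by
      obtain ⟨u, hu, rfl⟩ := hO₁.1 hC
      exact hO₁.2 ⟨(t : S) * u, mul_mem t.2 hu, hmul _ _⟩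
  have h₂ : ∀ t : S₁, ∀ x ∈ joinFix O₂, (S.subtype.comp S₁.subtype) t x ∈ joinFix O₂ := fun t =>
    joinFix_map fun C hC => by
      obtain ⟨u, hu, rfl⟩ := hO₂.1 hC
      exact hO₂.2 ⟨(t : S) * u, fun h => hu ((mul_mem_cancel_left t.2).1 h), hmul _ _⟩
  have hE₁ : joinFix O₁ ≠ ⊤ := fun h => by
    obtain ⟨C, hC⟩ := hne₂
    obtain ⟨u, hu, rfl⟩ := hO₂.1 hC
    have hcen := hq.center ((u : MulAut E) xB) fun y =>
      (hc y (h ▸ mem_top y) _ (le_joinFix hC (fix_cjSub hxB))).symm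
    rcases hcen with h' | h'
    · exact hxB1 ((MulEquiv.map_eq_one_iff _).1 h')
    · exact hxBz ((u : MulAut E).injective (h'.trans (aut_fix hq _).symm))
  obtain ⟨η₁, hη₁⟩ := ind_sub (S.subtype.comp S₁.subtype) IH (hP.to_subgroup S₁) A hA
    (fun t => hSA _ (t : S).2) hfix (joinFix O₁) (hzO O₁ hne₁)
    (quad_sub hq (hzO O₁ hne₁) (joinFix_dec hq O₁ (fun C hC => hOodd C (Finset.mem_of_mem_filter C hC))
      fun C hC C' hC' => hcom C (Finset.mem_of_mem_filter C hC) C' (Finset.mem_of_mem_filter C' hC')))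
    hE₁ h₁ (hAinv O₁ (Finset.filter_subset _ _))
  refine swap_ext hq S S₁ hidx (joinFix O₁) (joinFix O₂) (hzO O₁ hne₁) (hzO O₂ hne₂) hc hgen
    (fun x hx hx' => hq.center x fun y => ?_) h₁ h₂ (fun u hu => joinFix_map fun C hC => ?_)
    (fun u hu => joinFix_map fun C hC => ?_) hη₁
  · obtain ⟨a, ha, b, hb, rfl⟩ := hgen y
    exact (hc a ha x hx').symm.mul_right (hc x hx b hb)
  · obtain ⟨v, hv, rfl⟩ := hO₁.1 hC
    exact hO₂.2 ⟨u * v, fun h => hu ((mul_mem_cancel_right hv).1 h), hmul _ _⟩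
  · obtain ⟨v, hv, rfl⟩ := hO₂.1 hC
    exact hO₁.2 ⟨u * v, (mul_mem_iff_of_index_two hidx).2 ⟨fun h => absurd h hu, fun h => absurd h hv⟩, hmul _ _⟩

end CfsgLib.Char.ExtraspecialExt
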