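import Cfsg.Agent.Lib.Char.ExtraspecialExt.Base
import Cfsg.Agent.Lib.Char.ExtraspecialExt.OrbitExt
import Cfsg.Agent.Lib.Solvable.Averaging
import Cfsg.Agent.S0205

/-!
Every two-group normalising an odd group without non-central fixed elements admits an extension.
-/

set_option autoImplicit false

namespace CfsgLib.Char.ExtraspecialExt

open Subgroup CfsgLib.Char SemidirectProduct

universe u

variable {E : Type u} [Group E] [Finite E] {z : E}

/-- An elementary abelian subgroup normalised by everything that normalises the given odd group. -/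
theorem exists_elementary (K : Subgroup (MulAut E)) (hK : Odd (Nat.card K)) (hK1 : K ≠ ⊥) :
    ∃ (A : Subgroup (MulAut E)) (r : ℕ), r.Prime ∧ r ≠ 2 ∧ A ≤ K ∧ A ≠ ⊥ ∧ Odd (Nat.card A) ∧
      (∀ a ∈ A, a ^ r = 1) ∧ (∀ a ∈ A, ∀ b ∈ A, Commute a b) ∧
      (∀ u : MulAut E, (∀ k ∈ K, u * k * u⁻¹ ∈ K) → ∀ a ∈ A, u * a * u⁻¹ ∈ A) := by
  classical
  obtain ⟨n, hn⟩ := (Group.isSolvable_def (G := K)).1 (Cfsg.Agent.S0205.result hK)
  have hex : ∃ n, derivedSeries K n = ⊥ := ⟨n, hn⟩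
  obtain ⟨k, hk⟩ : ∃ k, Nat.find hex = k + 1 := Nat.exists_eq_succ_of_ne_zero fun h => by
    have h1 := Nat.find_spec hex
    rw [h, derivedSeries_zero] at h1
    refine hK1 ((eq_bot_iff_forall _).2 fun a ha => ?_)
    have h2 : (⟨a, ha⟩ : K) ∈ (⊥ : Subgroup K) := h1 ▸ mem_top _
    exact congrArg Subtype.val (mem_bot.1 h2)
  have hDn : derivedSeries K k ≠ ⊥ := Nat.find_min hex (by omega)
  have hDs : derivedSeries K (k + 1) = ⊥ := hk ▸ Nat.find_spec hex
  rw [derivedSeries_succ, commutator_eq_bot_iff_le_centralizer] at hDs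
  have hDc : ∀ x ∈ derivedSeries K k, ∀ y ∈ derivedSeries K k, Commute x y := fun x hx y hy =>
    (mem_centralizer_iff.1 (hDs hx) y hy).symm
  set D : Subgroup (MulAut E) := (derivedSeries K k).map K.subtype with hD
  have hDK : D ≤ K := map_subtype_le _
  have hD1 : D ≠ ⊥ := fun h => hDn ((map_eq_bot_iff_of_injective _ K.subtype_injective).1 h)
  have hDodd : Odd (Nat.card D) := hK.of_dvd_nat (card_dvd_of_le hDK)
  obtain ⟨r, hr, hrD⟩ := Nat.exists_prime_and_dvd (fun h => hD1 (card_eq_one.1 h))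
  haveI : Fact r.Prime := ⟨hr⟩
  have hDcomm : ∀ a ∈ D, ∀ b ∈ D, Commute a b := by
    rintro _ ⟨x, hx, rfl⟩ _ ⟨y, hy, rfl⟩
    exact (hDc x hx y hy).map K.subtype
  let A : Subgroup (MulAut E) :=
    { carrier := {a | a ∈ D ∧ a ^ r = 1}
      one_mem' := ⟨one_mem D, one_pow r⟩
      mul_mem' := fun {a b} ha hb => ⟨mul_mem ha.1 hb.1, by
        rw [(hDcomm a ha.1 b hb.1).mul_pow, ha.2, hb.2, one_mul]⟩
      inv_mem' := fun {a} ha => ⟨inv_mem ha.1, by rw [inv_pow, ha.2, inv_one]⟩ }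
  refine ⟨A, r, hr, ?_, fun a ha => hDK ha.1, ?_, ?_, fun a ha => ha.2, fun a ha b hb =>
    hDcomm a ha.1 b hb.1, ?_⟩
  · rintro rfl
    exact Nat.not_even_iff_odd.2 hDodd (even_iff_two_dvd.2 hrD)
  · obtain ⟨x, hx⟩ := exists_prime_orderOf_dvd_card' r hrD
    intro h
    have hxA : (x : MulAut E) ∈ A := ⟨x.2, by
      rw [← SubmonoidClass.coe_pow, ← hx, pow_orderOf_eq_one]; rfl⟩
    rw [h, mem_bot] at hxA
    rw [← Subgroup.orderOf_coe, hxA, orderOf_one] at hx
    exact hr.one_lt.ne' hx.symm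
  · exact hDodd.of_dvd_nat (card_dvd_of_le fun a ha => ha.1)
  · intro u hu a ha
    refine ⟨?_, by rw [conj_pow, ha.2, mul_one, mul_inv_cancel]⟩
    obtain ⟨x, hx, rfl⟩ := ha.1
    let c : K →* K := ((MulAut.conj u).toMonoidHom.comp K.subtype).codRestrict K fun y => hu y y.2
    exact ⟨c x, map_derivedSeries_le_derivedSeries c k ⟨x, hx, rfl⟩, rfl⟩

theorem has_exts (n : ℕ) : HasExts.{u} n := by
  induction n using Nat.strong_induction_on with
  | _ n ih =>
  intro E _ _ z hq hn K S hK hP hSK hfix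
  classical
  subst hn
  by_cases hEZ : ∀ x : E, x = 1 ∨ x = z
  · haveI : Subsingleton S := ⟨fun u v => Subtype.ext (MulEquiv.ext fun x => by
      rcases hEZ x with rfl | rfl
      · rw [map_one, map_one]
      · rw [aut_fix hq, aut_fix hq])⟩
    exact exists_ext_of_subsingleton hq
  push Not at hEZ
  obtain ⟨x₀, hx₀1, hx₀z⟩ := hEZ
  have hK1 : K ≠ ⊥ := fun h => by
    rcases hfix x₀ (fun k hk => by
      rw [h, mem_bot] at hk
      rw [hk, MulAut.one_apply]) with h' | h'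
    · exact hx₀1 h'
    · exact hx₀z h'
  obtain ⟨A, r, hr, hr2, hAK, hA1, hAodd, hAr, hAc, hAn⟩ := exists_elementary K hK hK1
  have hSA : ∀ u ∈ S, ∀ k ∈ A, u * k * u⁻¹ ∈ A := fun u hu => hAn u (hSK u hu)
  by_cases hfA : ∃ x : E, (∀ k ∈ A, k x = x) ∧ x ≠ 1 ∧ x ≠ z
  · obtain ⟨x, hx, hx1, hxz⟩ := hfA
    have hinv : ∀ f : MulAut E, (∀ k ∈ A, f⁻¹ * k * f ∈ A) → ∀ y ∈ fixedSub A, f y ∈ fixedSub A := by
      intro f hf y hy k hk
      have h := hy _ (hf k hk)
      rw [MulAut.mul_apply, MulAut.mul_apply] at h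
      have h' := congrArg f h
      rwa [← MulAut.mul_apply, mul_inv_cancel, MulAut.one_apply] at h'
    refine split_ext S.subtype hq ih hP K hK (fun t => hSK t t.2) hfix (fixedSub A) (z_mem_fixedSub hq A)
      (exists_mul_centralizer hq A hAodd) ?_ ⟨x, hx, hx1, hxz⟩ ?_ ?_
    · intro h
      exact hA1 ((eq_bot_iff_forall _).2 fun a ha => MulEquiv.ext fun y => (h ▸ mem_top y : y ∈ fixedSub A) a ha)
    · intro t
      refine hinv _ fun k hk => ?_
      have := hSA _ (inv_mem t.2) k hk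
      rwa [inv_inv] at this
    · intro k hk
      refine hinv _ fun a ha => ?_
      have := hAn k⁻¹ (fun k' hk' => mul_mem (mul_mem (inv_mem hk) hk') (inv_mem (inv_mem hk))) a ha
      rwa [inv_inv] at this
  have hfixA : ∀ x : E, (∀ k ∈ A, k x = x) → x = 1 ∨ x = z := fun x hx => by
    by_contra h
    push Not at h
    exact hfA ⟨x, hx, h.1, h.2⟩
  by_cases hex : ∃ a ∈ A, a ≠ 1 ∧ ∃ x, a x = x ∧ x ≠ 1 ∧ x ≠ z
  · exact orbit_ext hq ih A hAodd hAc S hP hSA hfixA hex
  -- the fixed point free case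
  push Not at hex
  haveI : Nontrivial (E ⧸ zSub hq) := by
    rw [QuotientGroup.nontrivial_iff]
    intro h
    rcases (h ▸ mem_top x₀ : x₀ ∈ zSub hq) with h' | h'
    · exact hx₀1 h'
    · exact hx₀z h'
  have hmap : ∀ f : MulAut E, (zSub hq).map (f : E ≃* E).toMonoidHom = zSub hq := fun f => by
    refine eq_of_le_of_card_ge ?_ (card_map_of_injective f.injective).ge
    rintro _ ⟨x, rfl | rfl, rfl⟩
    · exact Or.inl (map_one f)
    · exact Or.inr (aut_fix hq f)
  let φ : A →* MulAut (E ⧸ zSub hq) :=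
    { toFun := fun a => QuotientGroup.congr _ _ (a : MulAut E) (hmap a)
      map_one' := MulEquiv.ext fun w => by
        obtain ⟨x, rfl⟩ := QuotientGroup.mk_surjective w
        rfl
      map_mul' := fun a b => MulEquiv.ext fun w => by
        obtain ⟨x, rfl⟩ := QuotientGroup.mk_surjective w
        rfl }
  letI : CommGroup (E ⧸ zSub hq) :=
    { (inferInstance : Group (E ⧸ zSub hq)) with
      mul_comm := fun a b => by
        obtain ⟨a, rfl⟩ := QuotientGroup.mk_surjective a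
        obtain ⟨b, rfl⟩ := QuotientGroup.mk_surjective b
        rw [← QuotientGroup.mk_mul, ← QuotientGroup.mk_mul, QuotientGroup.eq,
          show (a * b)⁻¹ * (b * a) = b⁻¹ * a⁻¹ * b * a by group]
        have := hq.comm b⁻¹ a⁻¹
        rwa [inv_inv, inv_inv] at this }
  have hcyc : IsCyclic A := CfsgLib.Solvable.isCyclic_of_fpf_comm φ (fun a ha w hw => by
    obtain ⟨x, rfl⟩ := QuotientGroup.mk_surjective w
    have h1 : ((a : MulAut E) x : E ⧸ zSub hq) = (x : E ⧸ zSub hq) := hw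
    have h2 : (a : MulAut E) x = x := fix_of_mem_zSub hq
      (hAodd.of_dvd_nat ((Subgroup.orderOf_coe a).symm ▸ _root_.orderOf_dvd_natCard a))
      (QuotientGroup.eq.1 h1.symm)
    rw [QuotientGroup.eq_one_iff]
    by_cases hx1 : x = 1
    · exact Or.inl hx1
    · exact Or.inr (hex a a.2 (fun h => ha (Subtype.ext h)) x h2 hx1))
    fun a b => Subtype.ext (hAc a a.2 b b.2).eq
  obtain ⟨g, hg⟩ := hcyc.exists_generator
  have hgne : (g : MulAut E) ≠ 1 := fun h => hA1 ((eq_bot_iff_forall _).2 fun a ha => by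
    obtain ⟨i, hi⟩ := hg ⟨a, ha⟩
    have := congrArg Subtype.val hi
    rw [SubgroupClass.coe_zpow, h, one_zpow] at this
    exact this.symm)
  have hgo : orderOf (g : MulAut E) = r := by
    haveI : Fact r.Prime := ⟨hr⟩
    exact orderOf_eq_prime (hAr g g.2) hgne
  refine base hq hr hr2 hgo (fun x hx => ?_) S hP fun u hu => ?_
  · by_cases hx1 : x = 1
    · exact Or.inl hx1
    · exact Or.inr (hex g g.2 hgne x hx hx1)
  · obtain ⟨i, hi⟩ := hg ⟨_, hSA u hu g g.2⟩
    exact ⟨i, congrArg Subtype.val hi⟩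

end CfsgLib.Char.ExtraspecialExt
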