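import Cfsg.Agent.Lib.Char.ExtraspecialExt.Sub
import Cfsg.Agent.Lib.Char.ExtraspecialExt.Canon

/-!
Orbits of fixed subgroups of maximal subgroups of an abelian group of automorphisms.
-/

set_option autoImplicit false

namespace CfsgLib.Char.ExtraspecialExt

open Subgroup CfsgLib.Char SemidirectProduct

universe u

variable {E : Type u} [Group E] [Finite E] {z : E}

/-- The subgroup generated by a family of fixed subgroups. -/
def joinFix (O : Finset (Subgroup (MulAut E))) : Subgroup E := O.sup fixedSub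

theorem le_joinFix {O : Finset (Subgroup (MulAut E))} {B : Subgroup (MulAut E)} (h : B ∈ O) :
    fixedSub B ≤ joinFix O := Finset.le_sup h

/-- The image of a group of automorphisms under conjugation. -/
def cjSub (f : MulAut E) (B : Subgroup (MulAut E)) : Subgroup (MulAut E) :=
  B.map (MulAut.conj f).toMonoidHom

omit [Finite E] in
theorem cjSub_mul (f g : MulAut E) (B : Subgroup (MulAut E)) : cjSub (f * g) B = cjSub f (cjSub g B) := by
  rw [cjSub, cjSub, cjSub, map_map]
  congr 1

omit [Finite E] in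
theorem cjSub_one (B : Subgroup (MulAut E)) : cjSub 1 B = B := by
  rw [cjSub, map_one]
  exact B.map_id

omit [Finite E] in
theorem fix_cjSub {f : MulAut E} {B : Subgroup (MulAut E)} {x : E} (hx : x ∈ fixedSub B) :
    f x ∈ fixedSub (cjSub f B) := by
  rintro _ ⟨b, hb, rfl⟩
  show (f * b * f⁻¹) (f x) = f x
  rw [← MulAut.mul_apply, inv_mul_cancel_right, MulAut.mul_apply, hx b hb]

theorem joinFix_map {O O' : Finset (Subgroup (MulAut E))} {f : MulAut E}
    (h : ∀ B ∈ O, cjSub f B ∈ O') : ∀ x ∈ joinFix O, f x ∈ joinFix O' := by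
  have hle : joinFix O ≤ (joinFix O').comap (f : E ≃* E).toMonoidHom :=
    Finset.sup_le fun B hB x hx => le_joinFix (h B hB) (fix_cjSub hx)
  exact fun x hx => hle hx

omit [Finite E] in
theorem joinFix_commute {O : Finset (Subgroup (MulAut E))} {w : E}
    (h : ∀ B ∈ O, ∀ x ∈ fixedSub B, Commute x w) : ∀ x ∈ joinFix O, Commute x w := by
  have hle : joinFix O ≤ centralizer ({w} : Set E) :=
    Finset.sup_le fun B hB x hx => mem_centralizer_singleton_iff.2 (h B hB x hx).eq
  exact fun x hx => mem_centralizer_singleton_iff.1 (hle hx)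

theorem joinFix_dec (hq : Quad z) (O : Finset (Subgroup (MulAut E))) (hodd : ∀ B ∈ O, Odd (Nat.card B))
    (hcom : ∀ B ∈ O, ∀ B' ∈ O, B ≠ B' → ∀ x ∈ fixedSub B, ∀ y ∈ fixedSub B', Commute x y) (y : E) :
    ∃ u ∈ joinFix O, ∃ w ∈ centralizer (joinFix O : Set E), y = u * w := by
  classical
  induction O using Finset.induction_on generalizing y with
  | empty =>
    refine ⟨1, one_mem _, y, ?_, (one_mul y).symm⟩
    rw [mem_centralizer_iff]
    intro x hx
    have hx' : x ∈ (⊥ : Subgroup E) := hx
    rw [mem_bot.1 hx', one_mul, mul_one]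
  | insert B O hB ih =>
    have hcomB : ∀ v ∈ fixedSub B, ∀ x ∈ joinFix O, Commute x v := fun v hv =>
      joinFix_commute fun B' hB' x hx => hcom B' (Finset.mem_insert_of_mem hB') B (Finset.mem_insert_self B O)
        (fun h => hB (h ▸ hB')) x hx v hv
    obtain ⟨u, hu, w, hw, rfl⟩ := ih (fun B' h => hodd B' (Finset.mem_insert_of_mem h))
      (fun B' h B'' h' => hcom B' (Finset.mem_insert_of_mem h) B'' (Finset.mem_insert_of_mem h')) y
    obtain ⟨v, hv, w', hw', rfl⟩ := exists_mul_centralizer hq B (hodd B (Finset.mem_insert_self B O)) w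
    refine ⟨u * v, mul_mem ?_ (le_joinFix (Finset.mem_insert_self B O) hv), w', ?_, (mul_assoc u v w').symm⟩
    · exact (Finset.sup_mono (Finset.subset_insert B O) : joinFix O ≤ _) hu
    · rw [mem_centralizer_iff]
      intro x hx
      refine (joinFix_commute (O := insert B O) (w := w') (fun B' hB' y' hy' => ?_) x hx).eq
      rcases Finset.mem_insert.1 hB' with rfl | hB'
      · exact mem_centralizer_iff.1 hw' y' hy'
      · have hxO := le_joinFix hB' hy'
        have h := (hcomB v hv y' hxO).inv_right.mul_right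
          (show Commute y' (v * w') from mem_centralizer_iff.1 hw y' hxO)
        rwa [inv_mul_cancel_left] at h

/-- The fixed subgroups of distinct maximal subgroups commute. -/
theorem fixedSub_commute (hq : Quad z) (A : Subgroup (MulAut E)) (hA : Odd (Nat.card A))
    (hAc : ∀ a ∈ A, ∀ b ∈ A, Commute a b) {B B' : Subgroup (MulAut E)} (hB : B ≤ A) (hB' : B' ≤ A)
    (hne : B ≠ B') (hmax : ∀ C : Subgroup (MulAut E), C ≤ A → C ≠ ⊥ → (∃ x ∈ fixedSub C, x ≠ 1 ∧ x ≠ z) →
      Nat.card C ≤ Nat.card B) (hcard : Nat.card B' = Nat.card B) :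
    ∀ x ∈ fixedSub B, ∀ y ∈ fixedSub B', Commute x y := by
  intro x hx y hy
  obtain ⟨v, hv, hvc, hvW⟩ := exists_fixed_part hq B (hA.of_dvd_nat (card_dvd_of_le hB)) y
  have hv' : v ∈ fixedSub B' := hvW _ (z_mem_fixedSub hq B') fun b hb b' hb' => by
    rw [← MulAut.mul_apply, (hAc b' (hB' hb') b (hB hb)).eq, MulAut.mul_apply, hy b' hb']
  have hvsup : v ∈ fixedSub (B ⊔ B') := by
    have hle : B ⊔ B' ≤ MulAction.stabilizer (MulAut E) v := sup_le (fun b hb => hv b hb) fun b hb => hv' b hb
    exact fun b hb => hle hb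
  by_cases hv1 : v = 1 ∨ v = z
  · have hxv : Commute x v := by
      rcases hv1 with h | h <;> rw [h]
      · exact Commute.one_right x
      · exact (hq.central x).symm
    have := hxv.mul_right (hvc x hx)
    rwa [mul_inv_cancel_left] at this
  · exfalso
    push Not at hv1
    have hlt : Nat.card B < Nat.card (B ⊔ B' : Subgroup (MulAut E)) := by
      refine lt_of_le_of_ne (card_le_of_le le_sup_left) fun h => hne ?_
      have heq := eq_of_le_of_card_ge (le_sup_left : B ≤ B ⊔ B') h.ge
      exact (eq_of_le_of_card_ge (heq.symm ▸ (le_sup_right : B' ≤ B ⊔ B')) hcard.ge).symm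
    refine absurd (hmax _ (sup_le hB hB') (fun h => ?_) ⟨v, hvsup, hv1.1, hv1.2⟩) (not_le.2 hlt)
    rw [h, card_bot] at hlt
    exact absurd hlt (not_lt.2 Nat.card_pos)

end CfsgLib.Char.ExtraspecialExt
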