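import Cfsg.Agent.Lib.Char.ExtraspecialExt.Fr
import Mathlib.GroupTheory.NoncommCoprod

/-!
The product of extensions over two commuting subgroups meeting in the centre.
-/

set_option autoImplicit false

namespace CfsgLib.Char.ExtraspecialExt

open Subgroup CfsgLib.Char CfsgLib.CharNormal SemidirectProduct

universe u v

variable {E : Type u} [Group E] {T : Type v} [Group T] (φ : T →* MulAut E)

/-- The restricted action. -/
def resHom (U : Subgroup E) (h : ∀ t, ∀ x ∈ U, φ t x ∈ U) : T →* MulAut U :=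
  (resAut U).comp (φ.codRestrict (stabSub U) fun t x =>
    ⟨fun hx => by
      have := h t⁻¹ _ hx
      rwa [map_inv, ← MulAut.mul_apply, inv_mul_cancel, MulAut.one_apply] at this, h t x⟩)

theorem coe_resHom (U : Subgroup E) (h : ∀ t, ∀ x ∈ U, φ t x ∈ U) (t : T) (x : U) :
    ((resHom φ U h t) x : E) = φ t x := rfl

variable [Finite E] [Finite T] {z : E}

/-- The product. -/
theorem product (hq : Quad z) {E₁ E₂ : Subgroup E} (hz₁ : z ∈ E₁) (hz₂ : z ∈ E₂)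
    (hc : ∀ x ∈ E₁, ∀ y ∈ E₂, Commute x y) (hgen : ∀ e, ∃ x ∈ E₁, ∃ y ∈ E₂, e = x * y)
    (hint : ∀ x ∈ E₁, x ∈ E₂ → x = 1 ∨ x = z)
    (h₁ : ∀ t, ∀ x ∈ E₁, φ t x ∈ E₁) (h₂ : ∀ t, ∀ x ∈ E₂, φ t x ∈ E₂)
    {η₁ : E₁ ⋊[resHom φ E₁ h₁] T → ℂ} (hη₁ : IsExt (⟨z, hz₁⟩ : E₁) (resHom φ E₁ h₁) η₁)
    {η₂ : E₂ ⋊[resHom φ E₂ h₂] T → ℂ} (hη₂ : IsExt (⟨z, hz₂⟩ : E₂) (resHom φ E₂ h₂) η₂) :
    ∃ η, IsExt z φ η ∧ ∀ (x : E₁) (y : E₂) (t : T),
      η ⟨(x : E) * y, t⟩ = η₁ ⟨x, t⟩ * η₂ ⟨y, t⟩ := by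
  classical
  let ψ : T →* MulAut (E₁ × E₂) :=
    { toFun := fun t => MulEquiv.prodCongr (resHom φ E₁ h₁ t) (resHom φ E₂ h₂ t)
      map_one' := by ext1 p; simp only [map_one]; rfl
      map_mul' := fun s t => by ext1 p; simp only [map_mul]; rfl }
  let m : E₁ × E₂ →* E := MonoidHom.noncommCoprod E₁.subtype E₂.subtype fun x y => hc x x.2 y y.2
  let D := (E₁ × E₂) ⋊[ψ] T
  let π : D →* E ⋊[φ] T := SemidirectProduct.map m (MonoidHom.id T) fun t => MonoidHom.ext fun p => by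
    show ((resHom φ E₁ h₁ t p.1 : E₁) : E) * ((resHom φ E₂ h₂ t p.2 : E₂) : E) = φ t ((p.1 : E) * p.2)
    rw [map_mul]; rfl
  let f₁ : D →* E₁ ⋊[resHom φ E₁ h₁] T :=
    SemidirectProduct.map (MonoidHom.fst E₁ E₂) (MonoidHom.id T) fun t => rfl
  let f₂ : D →* E₂ ⋊[resHom φ E₂ h₂] T :=
    SemidirectProduct.map (MonoidHom.snd E₁ E₂) (MonoidHom.id T) fun t => rfl
  have hπ : ∀ (x : E₁) (y : E₂) (t : T), π ⟨(x, y), t⟩ = ⟨(x : E) * y, t⟩ := fun x y t => rfl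
  have hπs : Function.Surjective π := by
    rintro ⟨e, t⟩
    obtain ⟨x, hx, y, hy, rfl⟩ := hgen e
    exact ⟨⟨(⟨x, hx⟩, ⟨y, hy⟩), t⟩, rfl⟩
  let χ : D → ℂ := (η₁ ∘ f₁) * (η₂ ∘ f₂)
  have hχ : Cfsg.IsCharacter D χ :=
    isCharacter_mul (isCharacter_comp hη₁.char f₁) (isCharacter_comp hη₂.char f₂)
  obtain ⟨d₁, hd₁, h11, h1z⟩ := hη₁.one_eq
  obtain ⟨d₂, hd₂, h21, h2z⟩ := hη₂.one_eq
  have hker0 : ∀ (x : E₁) (y : E₂), (x : E) * y = 1 → (x = 1 ∧ y = 1) ∨ (x = ⟨z, hz₁⟩ ∧ y = ⟨z, hz₂⟩) := by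
    intro x y hxy
    have hy : (y : E) = (x : E)⁻¹ := (inv_eq_of_mul_eq_one_right hxy).symm
    rcases hint x x.2 (by rw [← inv_inv (x : E), ← hy]; exact inv_mem y.2) with h | h
    · exact Or.inl ⟨Subtype.ext h, Subtype.ext (by rw [hy, h, inv_one]; rfl)⟩
    · exact Or.inr ⟨Subtype.ext h, Subtype.ext (by rw [hy, h]; exact inv_eq_of_mul_eq_one_right hq.z_mul)⟩
  have hker : ∀ g ∈ π.ker, χ g = χ 1 := by
    rintro ⟨⟨x, y⟩, t⟩ hg
    rw [MonoidHom.mem_ker, hπ] at hg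
    obtain rfl : t = 1 := congrArg SemidirectProduct.right hg
    rcases hker0 x y (congrArg SemidirectProduct.left hg) with ⟨rfl, rfl⟩ | ⟨rfl, rfl⟩
    · rfl
    · show η₁ (inl (⟨z, hz₁⟩ : E₁)) * η₂ (inl (⟨z, hz₂⟩ : E₂)) = η₁ (f₁ 1) * η₂ (f₂ 1)
      rw [map_one, map_one, h1z, h2z, h11, h21]; ring
  obtain ⟨ψ', hψ', hψe⟩ := exists_eq_comp_mk' π.ker hχ hker
  let eq := QuotientGroup.quotientKerEquivOfSurjective π hπs
  let η : E ⋊[φ] T → ℂ := ψ' ∘ eq.symm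
  have hval : ∀ (x : E₁) (y : E₂) (t : T), η ⟨(x : E) * y, t⟩ = η₁ ⟨x, t⟩ * η₂ ⟨y, t⟩ := by
    intro x y t
    have hs : eq.symm ⟨(x : E) * y, t⟩ = ((⟨(x, y), t⟩ : D) : D ⧸ π.ker) := by
      rw [MulEquiv.symm_apply_eq]; rfl
    show ψ' (eq.symm ⟨(x : E) * y, t⟩) = _
    rw [hs]
    exact congrFun hψe ⟨(x, y), t⟩
  refine ⟨η, ⟨isCharacter_comp hψ' eq.symm.toMonoidHom, ?_⟩, hval⟩
  have hinl : ∀ (x : E₁) (y : E₂), η (inl ((x : E) * y)) = η₁ (inl x) * η₂ (inl y) := fun x y => hval x y 1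
  have hcard : 2 * Nat.card E = Nat.card E₁ * Nat.card E₂ := by
    have hms : Function.Surjective m := fun e => by
      obtain ⟨x, hx, y, hy, rfl⟩ := hgen e
      exact ⟨(⟨x, hx⟩, ⟨y, hy⟩), rfl⟩
    have h := m.ker.card_mul_index
    rw [index_ker, MonoidHom.range_eq_top.2 hms, card_top, Nat.card_prod] at h
    rw [← h]
    congr 1
    symm
    rw [Nat.card_eq_two_iff]
    refine ⟨1, ⟨(⟨z, hz₁⟩, ⟨z, hz₂⟩), hq.z_mul⟩, fun h => ?_, ?_⟩
    · have := congrArg (fun p : m.ker => (p.1.1 : E)) h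
      exact hq.z_ne this.symm
    · rw [Set.eq_univ_iff_forall]
      rintro ⟨⟨x, y⟩, hxy⟩
      rcases hker0 x y hxy with ⟨rfl, rfl⟩ | ⟨rfl, rfl⟩
      · exact Or.inl rfl
      · exact Or.inr rfl
  refine ⟨isCharacter_comp (isCharacter_comp hψ' eq.symm.toMonoidHom) inl, ⟨d₁ * d₂, ?_, ?_, ?_⟩, ?_⟩
  · refine Nat.eq_of_mul_eq_mul_left (show 0 < 2 by norm_num) ?_
    rw [hcard, ← hd₁, ← hd₂]; ring
  · have := hinl 1 1
    rw [Subgroup.coe_one, one_mul, Subgroup.coe_one] at this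
    show η (inl 1) = _
    rw [this, map_one, map_one, h11, h21]
    push_cast; rfl
  · have := hinl ⟨z, hz₁⟩ 1
    rw [Subgroup.coe_one, mul_one] at this
    show η (inl z) = _
    rw [this, h1z, map_one, h21]
    push_cast; ring
  · intro e he1 hez
    obtain ⟨x, hx, y, hy, rfl⟩ := hgen e
    show η (inl ((⟨x, hx⟩ : E₁) * (⟨y, hy⟩ : E₂) : E)) = 0
    rw [hinl]
    by_cases hxz : x = 1 ∨ x = z
    · have hy0 : η₂ (inl (⟨y, hy⟩ : E₂)) = 0 := by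
        refine hη₂.fr.vanish _ (fun h => ?_) fun h => ?_
        · have h' : y = 1 := congrArg Subtype.val h
          rcases hxz with rfl | rfl <;> subst h'
          · exact he1 (one_mul 1)
          · exact hez (mul_one _)
        · have h' : y = z := congrArg Subtype.val h
          rcases hxz with rfl | rfl <;> subst h'
          · exact hez (one_mul _)
          · exact he1 hq.z_mul
      rw [hy0, mul_zero]
    · push Not at hxz
      have hx0 : η₁ (inl (⟨x, hx⟩ : E₁)) = 0 := hη₁.fr.vanish _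
        (fun h => hxz.1 (congrArg Subtype.val h)) (fun h => hxz.2 (congrArg Subtype.val h))
      rw [hx0, zero_mul]

end CfsgLib.Char.ExtraspecialExt
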