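import Cfsg.Agent.Lib.Char.Extraspecial

/-!
Two-groups with a centre of order two containing all commutators, and odd groups of automorphisms.
-/

set_option autoImplicit false

namespace CfsgLib.Char.ExtraspecialExt

open Subgroup

universe u

variable {E : Type u} [Group E]

/-- The group is a two-group, `z` is the central involution and all commutators are in `⟨z⟩`. -/
structure Quad (z : E) : Prop where
  two : IsPGroup 2 E
  z_mul : z * z = 1
  z_ne : z ≠ 1
  central : ∀ x : E, Commute z x
  comm : ∀ x y : E, x * y * x⁻¹ * y⁻¹ = 1 ∨ x * y * x⁻¹ * y⁻¹ = z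
  center : ∀ x : E, (∀ y, Commute x y) → x = 1 ∨ x = z

variable {z : E}

/-- The subgroup `{1, z}`. -/
def zSub (hq : Quad z) : Subgroup E where
  carrier := {x | x = 1 ∨ x = z}
  one_mem' := Or.inl rfl
  inv_mem' := by
    rintro a (rfl | rfl)
    · exact Or.inl inv_one
    · exact Or.inr (inv_eq_of_mul_eq_one_right hq.z_mul)
  mul_mem' := by
    rintro a b (rfl | rfl) (rfl | rfl)
    · exact Or.inl (one_mul 1)
    · exact Or.inr (one_mul _)
    · exact Or.inr (mul_one _)
    · exact Or.inl hq.z_mul

theorem mem_zSub (hq : Quad z) {x : E} : x ∈ zSub hq ↔ x = 1 ∨ x = z := Iff.rfl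

instance zSub_normal (hq : Quad z) : (zSub hq).Normal := ⟨fun x hx g => by
  rcases hx with rfl | rfl
  · rw [mul_one, mul_inv_cancel]; exact one_mem _
  · rw [← (hq.central g).eq, mul_inv_cancel_right]; exact Or.inr rfl⟩

theorem zSub_le_center (hq : Quad z) : zSub hq ≤ Subgroup.center E := fun x hx => by
  rw [Subgroup.mem_center_iff]
  intro g
  rcases hx with rfl | rfl
  · rw [mul_one, one_mul]
  · exact (hq.central g).eq.symm

theorem aut_fix (hq : Quad z) (f : MulAut E) : f z = z := by
  rcases hq.center (f z) (fun y => by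
    have h := (hq.central (f.symm y)).map (f : E ≃* E).toMonoidHom
    simpa using h) with h | h
  · exact absurd ((MulEquiv.map_eq_one_iff f).1 h) hq.z_ne
  · exact h

/-- The commutator with a fixed element, as a homomorphism. -/
def cm (hq : Quad z) (x : E) : E →* Subgroup.center E where
  toFun y := ⟨x * y * x⁻¹ * y⁻¹, zSub_le_center hq (hq.comm x y)⟩
  map_one' := Subtype.ext (by simp)
  map_mul' a b := Subtype.ext (by
    have hc : a * (x * b * x⁻¹ * b⁻¹) = (x * b * x⁻¹ * b⁻¹) * a :=
      Subgroup.mem_center_iff.1 (zSub_le_center hq (hq.comm x b)) a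
    show x * (a * b) * x⁻¹ * (a * b)⁻¹ = x * a * x⁻¹ * a⁻¹ * (x * b * x⁻¹ * b⁻¹)
    calc x * (a * b) * x⁻¹ * (a * b)⁻¹ = x * a * x⁻¹ * ((x * b * x⁻¹ * b⁻¹) * a⁻¹) := by group
      _ = x * a * x⁻¹ * (a⁻¹ * (a * (x * b * x⁻¹ * b⁻¹) * a⁻¹)) := by group
      _ = x * a * x⁻¹ * a⁻¹ * (x * b * x⁻¹ * b⁻¹) := by rw [hc]; group)

theorem coe_cm (hq : Quad z) (x y : E) : (cm hq x y : E) = x * y * x⁻¹ * y⁻¹ := rfl

theorem cm_eq_one (hq : Quad z) {x y : E} : cm hq x y = 1 ↔ Commute x y := by
  rw [Subtype.ext_iff, coe_cm, Subgroup.coe_one, mul_inv_eq_one, mul_inv_eq_iff_eq_mul]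
  exact Iff.rfl

theorem cm_sq (hq : Quad z) (x y : E) : cm hq x y * cm hq x y = 1 := by
  refine Subtype.ext ?_
  rw [Subgroup.coe_mul, Subgroup.coe_one, coe_cm]
  rcases hq.comm x y with h | h <;> rw [h]
  · exact one_mul 1
  · exact hq.z_mul

/-- The elements fixed by a group of automorphisms. -/
def fixedSub (B : Subgroup (MulAut E)) : Subgroup E where
  carrier := {x | ∀ b ∈ B, b x = x}
  one_mem' b _ := map_one b
  inv_mem' {a} ha b hb := by rw [map_inv, ha b hb]
  mul_mem' {a c} ha hc b hb := by rw [map_mul, ha b hb, hc b hb]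

theorem mem_fixedSub {B : Subgroup (MulAut E)} {x : E} : x ∈ fixedSub B ↔ ∀ b ∈ B, b x = x := Iff.rfl

theorem z_mem_fixedSub (hq : Quad z) (B : Subgroup (MulAut E)) : z ∈ fixedSub B :=
  fun b _ => aut_fix hq b

variable [Finite E]

/-- An element of odd order fixing `v` modulo the centre fixes it. -/
theorem fix_of_mem_zSub (hq : Quad z) {b : MulAut E} (hb : Odd (orderOf b)) {v : E}
    (h : v⁻¹ * b v ∈ zSub hq) : b v = v := by
  rcases h with h | h
  · exact (inv_mul_eq_one.1 h).symm
  · exfalso
    have hbv : b v = v * z := by rw [← h, mul_inv_cancel_left]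
    have hk : ∀ k : ℕ, (b ^ k) v = v * z ^ k := by
      intro k
      induction k with
      | zero => simp
      | succ k ih =>
        rw [pow_succ', MulAut.mul_apply, ih, map_mul, map_pow, hbv, aut_fix hq b, pow_succ', mul_assoc]
    have h1 := hk (orderOf b)
    obtain ⟨m, hm⟩ := hb
    rw [pow_orderOf_eq_one, hm, pow_succ, pow_mul, pow_two, hq.z_mul, one_pow, one_mul,
      MulAut.one_apply] at h1
    exact hq.z_ne (left_eq_mul.1 h1)

/-- Averaging over an odd group of automorphisms: the fixed part of an element. -/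
theorem exists_fixed_part (hq : Quad z) (B : Subgroup (MulAut E)) (hB : Odd (Nat.card B)) (y : E) :
    ∃ v ∈ fixedSub B, (∀ x ∈ fixedSub B, Commute x (v⁻¹ * y)) ∧
      ∀ W : Subgroup E, z ∈ W → (∀ b ∈ B, b y ∈ W) → v ∈ W := by
  classical
  haveI : Finite (MulAut E) := Finite.of_injective (fun f => (f : E → E)) DFunLike.coe_injective
  haveI := Fintype.ofFinite B
  set Z := zSub hq
  letI : CommGroup (E ⧸ Z) :=
    { (inferInstance : Group (E ⧸ Z)) with
      mul_comm := fun a b => by
        obtain ⟨a, rfl⟩ := QuotientGroup.mk_surjective a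
        obtain ⟨b, rfl⟩ := QuotientGroup.mk_surjective b
        rw [← QuotientGroup.mk_mul, ← QuotientGroup.mk_mul, QuotientGroup.eq,
          show (a * b)⁻¹ * (b * a) = b⁻¹ * a⁻¹ * b * a by group]
        have := hq.comm b⁻¹ a⁻¹
        rwa [inv_inv, inv_inv] at this }
  set q : E →* E ⧸ Z := QuotientGroup.mk' Z with hqdef
  obtain ⟨v, hv⟩ := QuotientGroup.mk'_surjective Z (∏ b : B, q ((b : MulAut E) y))
  have hvfix : v ∈ fixedSub B := by
    intro b hb
    refine fix_of_mem_zSub hq (hB.of_dvd_nat ?_) (QuotientGroup.eq.1 ?_)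
    · exact (Subgroup.orderOf_mk (ha := hb)) ▸ _root_.orderOf_dvd_natCard (⟨b, hb⟩ : B)
    · show q v = q (b v)
      let qb : E ⧸ Z →* E ⧸ Z := QuotientGroup.map Z Z (b : E ≃* E).toMonoidHom fun x hx => by
        show b x ∈ Z
        rcases hx with rfl | rfl
        · rw [map_one]; exact one_mem _
        · rw [aut_fix hq b]; exact Or.inr rfl
      have hqb : ∀ x, qb (q x) = q (b x) := fun x => rfl
      rw [← hqb, hv, map_prod]
      refine (Fintype.prod_equiv (Equiv.mulLeft (⟨b, hb⟩ : B)) _ _ fun c => ?_).symm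
      rw [hqb]; rfl
  refine ⟨v, hvfix, fun x hx => ?_, fun W hzW hW => ?_⟩
  · letI : CommGroup (Subgroup.center E) :=
      { (inferInstance : Group (Subgroup.center E)) with
        mul_comm := fun a b => Subtype.ext (Subgroup.mem_center_iff.1 b.2 a) }
    let cq : E ⧸ Z →* Subgroup.center E := QuotientGroup.lift Z (cm hq x) fun w hw => by
      rw [MonoidHom.mem_ker, cm_eq_one]
      rcases hw with rfl | rfl
      · exact Commute.one_right x
      · exact (hq.central x).symm
    have hcq : ∀ w, cq (q w) = cm hq x w := fun w => rfl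
    have hinv : ∀ b : B, cm hq x ((b : MulAut E) y) = cm hq x y := by
      intro b
      refine Subtype.ext ?_
      rw [coe_cm, coe_cm]
      have hx' : ((b : MulAut E) : MulAut E) x = x := hx b b.2
      have : (b : MulAut E) (x * y * x⁻¹ * y⁻¹) = x * y * x⁻¹ * y⁻¹ := by
        rcases hq.comm x y with h | h <;> rw [h]
        · exact map_one _
        · exact aut_fix hq _
      rw [← this, map_mul, map_mul, map_mul, map_inv, map_inv, hx']
    have h1 : cm hq x v = cm hq x y ^ Nat.card B := by
      rw [← hcq v, hv, map_prod, Finset.prod_congr rfl (fun b _ => (hcq _).trans (hinv b)),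
        Finset.prod_const, Finset.card_univ, Nat.card_eq_fintype_card]
    obtain ⟨m, hm⟩ := hB
    rw [hm, pow_succ, pow_mul, pow_two, cm_sq, one_pow, one_mul] at h1
    rw [← cm_eq_one hq, map_mul, map_inv, h1, inv_mul_cancel]
  · have h : q v ∈ W.map q := hv ▸ Subgroup.prod_mem _ fun b _ => ⟨_, hW b b.2, rfl⟩
    obtain ⟨w, hw, hwv⟩ := h
    have h' := QuotientGroup.eq.1 hwv
    rw [← mul_inv_cancel_left w v]
    refine mul_mem hw ?_
    rcases h' with h'' | h'' <;> rw [h'']
    · exact one_mem _
    · exact hzW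

/-- The fixed elements and their centralizer generate. -/
theorem exists_mul_centralizer (hq : Quad z) (B : Subgroup (MulAut E)) (hB : Odd (Nat.card B)) (y : E) :
    ∃ u ∈ fixedSub B, ∃ w ∈ centralizer (fixedSub B : Set E), y = u * w := by
  obtain ⟨v, hv, hc, -⟩ := exists_fixed_part hq B hB y
  exact ⟨v, hv, v⁻¹ * y, mem_centralizer_iff.2 fun x hx => (hc x hx).eq, (mul_inv_cancel_left v y).symm⟩

omit [Finite E] in
/-- A subgroup containing `z` that generates together with its centralizer inherits the properties. -/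
theorem quad_sub (hq : Quad z) {U : Subgroup E} (hzU : z ∈ U)
    (hdec : ∀ y, ∃ u ∈ U, ∃ w ∈ centralizer (U : Set E), y = u * w) : Quad (⟨z, hzU⟩ : U) where
  two := hq.two.to_subgroup U
  z_mul := Subtype.ext hq.z_mul
  z_ne h := hq.z_ne (congrArg Subtype.val h)
  central x := Subtype.ext (hq.central x).eq
  comm x y := by
    rcases hq.comm x y with h | h
    · exact Or.inl (Subtype.ext h)
    · exact Or.inr (Subtype.ext h)
  center x hx := by
    have hx' : ∀ y, Commute (x : E) y := fun y => by
      obtain ⟨u, hu, w, hw, rfl⟩ := hdec y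
      exact (show Commute (x : E) u from congrArg Subtype.val (hx ⟨u, hu⟩)).mul_right
        (mem_centralizer_iff.1 hw x x.2)
    rcases hq.center x hx' with h | h
    · exact Or.inl (Subtype.ext h)
    · exact Or.inr (Subtype.ext h)

omit [Finite E] in
/-- So does its centralizer. -/
theorem quad_centralizer (hq : Quad z) {U : Subgroup E} (hzU : z ∈ U)
    (hdec : ∀ y, ∃ u ∈ U, ∃ w ∈ centralizer (U : Set E), y = u * w) :
    Quad (⟨z, mem_centralizer_iff.2 fun x _ => (hq.central x).eq.symm⟩ : centralizer (U : Set E)) where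
  two := hq.two.to_subgroup _
  z_mul := Subtype.ext hq.z_mul
  z_ne h := hq.z_ne (congrArg Subtype.val h)
  central x := Subtype.ext (hq.central x).eq
  comm x y := by
    rcases hq.comm x y with h | h
    · exact Or.inl (Subtype.ext h)
    · exact Or.inr (Subtype.ext h)
  center x hx := by
    have hx' : ∀ y, Commute (x : E) y := fun y => by
      obtain ⟨u, hu, w, hw, rfl⟩ := hdec y
      exact (show Commute (x : E) u from (mem_centralizer_iff.1 x.2 u hu).symm).mul_right
        (congrArg Subtype.val (hx ⟨w, hw⟩))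
    rcases hq.center x hx' with h | h
    · exact Or.inl (Subtype.ext h)
    · exact Or.inr (Subtype.ext h)

/-- The automorphisms stabilising a subgroup. -/
def stabSub (U : Subgroup E) : Subgroup (MulAut E) where
  carrier := {f | ∀ x, f x ∈ U ↔ x ∈ U}
  one_mem' _ := Iff.rfl
  inv_mem' {f} hf x := by
    have := hf (f⁻¹ x)
    rw [← MulAut.mul_apply, mul_inv_cancel, MulAut.one_apply] at this
    exact this.symm
  mul_mem' {f g} hf hg x := (hf (g x)).trans (hg x)

omit [Finite E] in
theorem mem_stabSub {U : Subgroup E} {f : MulAut E} : f ∈ stabSub U ↔ ∀ x, f x ∈ U ↔ x ∈ U := Iff.rfl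

omit [Finite E] in
theorem le_stabSub {U : Subgroup E} {T : Subgroup (MulAut E)} (h : ∀ f ∈ T, ∀ x ∈ U, f x ∈ U) :
    T ≤ stabSub U := fun f hf x => ⟨fun hx => by
      have := h f⁻¹ (inv_mem hf) _ hx
      rwa [← MulAut.mul_apply, inv_mul_cancel, MulAut.one_apply] at this, h f hf x⟩

/-- Restriction of automorphisms. -/
def resAut (U : Subgroup E) : stabSub U →* MulAut U where
  toFun f :=
    { toFun := fun x => ⟨(f : MulAut E) x, (f.2 x).2 x.2⟩
      invFun := fun x => ⟨(f : MulAut E).symm x, (f.2 _).1 (by rw [MulEquiv.apply_symm_apply]; exact x.2)⟩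
      left_inv := fun x => Subtype.ext ((f : MulAut E).symm_apply_apply x)
      right_inv := fun x => Subtype.ext ((f : MulAut E).apply_symm_apply x)
      map_mul' := fun x y => Subtype.ext (map_mul (f : MulAut E) (x : E) y) }
  map_one' := MulEquiv.ext fun x => Subtype.ext rfl
  map_mul' f g := MulEquiv.ext fun x => Subtype.ext rfl

omit [Finite E] in
theorem coe_resAut (U : Subgroup E) (f : stabSub U) (x : U) : ((resAut U f) x : E) = (f : MulAut E) x := rfl

end CfsgLib.Char.ExtraspecialExt
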