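import Cfsg.Agent.Lib.Char.ExtraspecialExt.Fr

/-!
Extending across a cyclic quotient of the acting group, and products over a central decomposition.
-/

set_option autoImplicit false

namespace CfsgLib.Char.ExtraspecialExt

open Subgroup CfsgLib.Char CfsgLib.CharNormal SemidirectProduct

universe u v

variable {E : Type u} [Group E] {M : Type v} [Group M] (φ : M →* MulAut E) (T : Subgroup M)

/-- The inclusion of semidirect products. -/
def inclT : E ⋊[φ.comp T.subtype] T →* E ⋊[φ] M :=
  SemidirectProduct.map (MonoidHom.id E) T.subtype fun _ => rfl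

theorem inclT_apply (g : E ⋊[φ.comp T.subtype] T) : inclT φ T g = ⟨g.left, g.right⟩ := rfl

theorem inclT_injective : Function.Injective (inclT φ T) := fun a b h => by
  have h1 : (inclT φ T a).left = (inclT φ T b).left := by rw [h]
  have h2 : (inclT φ T a).right = (inclT φ T b).right := by rw [h]
  exact SemidirectProduct.ext h1 (Subtype.ext h2)

variable [hT : T.Normal]

/-- The automorphism induced by an element of the larger group. -/
def cjT (m : M) : E ⋊[φ.comp T.subtype] T →* E ⋊[φ.comp T.subtype] T :=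
  SemidirectProduct.map (φ m : E ≃* E).toMonoidHom (MulAut.conjNormal m : T ≃* T).toMonoidHom fun t =>
    MonoidHom.ext fun x => by
      show φ m (φ (t : M) x) = φ ((MulAut.conjNormal m t : T) : M) (φ m x)
      rw [MulAut.conjNormal_apply, ← MulAut.mul_apply, ← map_mul, ← MulAut.mul_apply, ← map_mul,
        inv_mul_cancel_right]

theorem cjT_apply (m : M) (g : E ⋊[φ.comp T.subtype] T) :
    cjT φ T m g = ⟨φ m g.left, MulAut.conjNormal m g.right⟩ := rfl

theorem cjT_inl (m : M) (x : E) : cjT φ T m (inl x) = inl (φ m x) := by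
  simp [cjT]

theorem cjT_inr (m : M) (t : T) : cjT φ T m (inr t) = inr (MulAut.conjNormal m t) := by
  simp [cjT]

theorem cjT_mul (m m' : M) (g : E ⋊[φ.comp T.subtype] T) :
    cjT φ T (m * m') g = cjT φ T m (cjT φ T m' g) := by
  simp [cjT_apply]

theorem cjT_one (g : E ⋊[φ.comp T.subtype] T) : cjT φ T 1 g = g := by
  simp [cjT_apply]

theorem inclT_cjT (m : M) (g : E ⋊[φ.comp T.subtype] T) :
    inclT φ T (cjT φ T m g) = inr m * inclT φ T g * (inr m)⁻¹ := by
  obtain ⟨x, t⟩ := g
  ext
  · simp [inclT_apply, cjT_apply]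
  · simp [inclT_apply, cjT_apply]

variable [Finite E] [Finite M] {z : E}

theorem IsExt.comp_cjT (hq : Quad z) {η : E ⋊[φ.comp T.subtype] T → ℂ} (h : IsExt z (φ.comp T.subtype) η)
    (m : M) : IsExt z (φ.comp T.subtype) (η ∘ cjT φ T m) where
  char := isCharacter_comp h.char _
  fr := by
    have : (fun x => (η ∘ cjT φ T m) (inl x)) = fun x => η (inl x) := funext fun x => by
      rw [Function.comp_apply, cjT_inl]
      exact h.fr.aut_apply hq (φ m) x
    rw [this]; exact h.fr

/-- An invariant extension extends across a cyclic quotient. -/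
theorem ext_step (hq : Quad z) [IsCyclic (M ⧸ T)] {η : E ⋊[φ.comp T.subtype] T → ℂ}
    (h : IsExt z (φ.comp T.subtype) η) (hinv : ∀ m g, η (cjT φ T m g) = η g) :
    ∃ χ, IsExt z φ χ ∧ ∀ g, χ (inclT φ T g) = η g := by
  set N := (inclT φ T).range with hNdef
  let e : E ⋊[φ.comp T.subtype] T ≃* N := MonoidHom.ofInjective (inclT_injective φ T)
  have hNmem : N = T.comap (rightHom (φ := φ)) := by
    ext g
    constructor
    · rintro ⟨g', rfl⟩; exact g'.right.2
    · intro hg; exact ⟨⟨g.left, ⟨g.right, hg⟩⟩, SemidirectProduct.ext rfl rfl⟩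
  haveI hN : N.Normal := hNmem ▸ inferInstance
  haveI := Fintype.ofFinite N
  haveI := Fintype.ofFinite (E ⋊[φ.comp T.subtype] T)
  have hirr : Cfsg.IsIrrCharacter N (η ∘ e.symm) := isIrr_comp_mulEquiv (h.irr hq) e.symm
  have hcyc : IsCyclic ((E ⋊[φ] M) ⧸ N) := by
    refine isCyclic_of_surjective (QuotientGroup.map T N inr fun t ht => ⟨inr ⟨t, ht⟩, by simp [inclT]⟩) ?_
    intro q
    obtain ⟨g, rfl⟩ := QuotientGroup.mk_surjective q
    refine ⟨QuotientGroup.mk g.right, ?_⟩
    show ((inr g.right : E ⋊[φ] M) : (E ⋊[φ] M) ⧸ N) = (g : (E ⋊[φ] M) ⧸ N)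
    rw [QuotientGroup.eq, hNmem]
    show ((inr g.right)⁻¹ * g).right ∈ T
    simp
  have hinvN : ∀ (g : E ⋊[φ] M) (n : N), (η ∘ e.symm) ⟨g * n * g⁻¹, hN.conj_mem (n : E ⋊[φ] M) n.2 g⟩ =
      (η ∘ e.symm) n := by
    intro g n
    obtain ⟨x, rfl⟩ := e.surjective n
    rw [Function.comp_apply, Function.comp_apply, MulEquiv.symm_apply_apply]
    have hx : (⟨g * (e x : E ⋊[φ] M) * g⁻¹, hN.conj_mem _ (e x).2 g⟩ : N) =
        e (inl g.left * cjT φ T g.right x * (inl g.left)⁻¹) := by
      refine Subtype.ext ?_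
      show g * inclT φ T x * g⁻¹ = inclT φ T (inl g.left * cjT φ T g.right x * (inl g.left)⁻¹)
      rw [map_mul, map_mul, map_inv, inclT_cjT, show inclT φ T (inl g.left) = inl g.left by simp [inclT]]
      conv_lhs => rw [← inl_left_mul_inr_right g]
      group
    rw [hx, MulEquiv.symm_apply_apply, isClassFunction_of_isCharacter h.char, hinv]
  obtain ⟨χ, hχ, hext⟩ := extend_of_cyclic N hcyc hirr hinvN
  have hχg : ∀ g, χ (inclT φ T g) = η g := fun g => by
    have := hext (e g)
    rwa [Function.comp_apply, MulEquiv.symm_apply_apply] at this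
  refine ⟨χ, ⟨isCharacter_of_isIrr hχ, ?_⟩, hχg⟩
  have : (fun x => χ (inl x)) = fun x => η (inl x) := funext fun x => by
    rw [← hχg (inl x)]; simp [inclT]
  rw [this]; exact h.fr

/-- An element of odd order centralizing a two-group fixes every extension. -/
theorem invariant_of_odd (hq : Quad z) (hT2 : IsPGroup 2 T) {a : M} (hao : Odd (orderOf a))
    (hat : ∀ t ∈ T, Commute a t) {η : E ⋊[φ.comp T.subtype] T → ℂ} (h : IsExt z (φ.comp T.subtype) η)
    (g : E ⋊[φ.comp T.subtype] T) : η (cjT φ T a g) = η g := by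
  obtain ⟨l, hl⟩ := h.exists_twist hq (h.comp_cjT φ T hq a)
  have hl' : ∀ g, η (cjT φ T a g) = η g * (l g.right : ℂ) := fun g => congrFun hl g
  have hright : ∀ g, (cjT φ T a g).right = g.right := fun g => Subtype.ext (by
    show ((MulAut.conjNormal a g.right : T) : M) = g.right
    rw [MulAut.conjNormal_apply, (hat _ g.right.2).eq, mul_inv_cancel_right])
  have hk : ∀ (k : ℕ) g, η (cjT φ T (a ^ k) g) = η g * ((l g.right : ℂ) ^ k) := by
    intro k
    induction k with
    | zero => intro g; rw [pow_zero, cjT_one, pow_zero, mul_one]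
    | succ k ih => intro g; rw [pow_succ, cjT_mul, ih, hl', hright, pow_succ']; ring
  have hpow : l ^ orderOf a = 1 := h.twist_inj hq (funext fun g => by
    have := hk (orderOf a) g
    rw [pow_orderOf_eq_one, cjT_one] at this
    rw [Pi.mul_apply, show tw (φ.comp T.subtype) (l ^ orderOf a) g = ((l g.right : ℂ)) ^ orderOf a by
      simp [tw], ← this])
  have hl1 : l g.right = 1 := by
    rw [← orderOf_eq_one_iff]
    obtain ⟨i, hi⟩ := hT2 g.right
    refine Nat.eq_one_of_dvd_coprimes (Nat.Coprime.pow_left i (Nat.coprime_two_left.2 hao))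
      (orderOf_dvd_of_pow_eq_one ?_) (orderOf_dvd_of_pow_eq_one ?_)
    · rw [← map_pow, hi, map_one]
    · rw [← MonoidHom.pow_apply, hpow]; rfl
  rw [hl', hl1, Units.val_one, mul_one]

end CfsgLib.Char.ExtraspecialExt
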