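import Cfsg.Agent.Lib.Char.ExtraspecialExt.Step
import Cfsg.Agent.Lib.Char.ExtraspecialExt.Product

/-!
The inductive step along a proper invariant subgroup with a supplementing centralizer.
-/

set_option autoImplicit false

namespace CfsgLib.Char.ExtraspecialExt

open Subgroup CfsgLib.Char SemidirectProduct

universe u

/-- The statement to be proved, for groups of order `n`. -/
def HasExts (n : ℕ) : Prop :=
  ∀ (E : Type u) [Group E] [Finite E] (z : E), Quad z → Nat.card E = n →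
    ∀ (K S : Subgroup (MulAut E)), Odd (Nat.card K) → IsPGroup 2 S →
      (∀ u ∈ S, ∀ k ∈ K, u * k * u⁻¹ ∈ K) → (∀ x : E, (∀ k ∈ K, k x = x) → x = 1 ∨ x = z) →
        ∃ η, IsExt z S.subtype η

variable {E : Type u} [Group E] [Finite E] {z : E} {T : Type u} [Group T] [Finite T]
  (φ : T →* MulAut E)

/-- The induction hypothesis on an invariant subgroup. -/
theorem ind_sub (IH : ∀ m < Nat.card E, HasExts.{u} m) (hT : IsPGroup 2 T)
    (K : Subgroup (MulAut E)) (hK : Odd (Nat.card K)) (hKT : ∀ t, ∀ k ∈ K, φ t * k * (φ t)⁻¹ ∈ K)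
    (hfix : ∀ x : E, (∀ k ∈ K, k x = x) → x = 1 ∨ x = z)
    (U : Subgroup E) (hzU : z ∈ U) (hqU : Quad (⟨z, hzU⟩ : U)) (hU : U ≠ ⊤)
    (hUT : ∀ t, ∀ x ∈ U, φ t x ∈ U) (hUK : ∀ k ∈ K, ∀ x ∈ U, k x ∈ U) :
    ∃ η, IsExt (⟨z, hzU⟩ : U) (resHom φ U hUT) η := by
  let ρ : K →* MulAut U := resHom K.subtype U fun k => hUK k k.2
  have hlt : Nat.card U < Nat.card E :=
    U.card_le_card_group.lt_of_ne fun h => hU (U.eq_top_of_card_eq h)
  obtain ⟨η, hη⟩ := IH _ hlt U ⟨z, hzU⟩ hqU rfl ρ.range (resHom φ U hUT).range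
    (hK.of_dvd_nat (Subgroup.card_range_dvd ρ))
    (hT.of_surjective (resHom φ U hUT).rangeRestrict (MonoidHom.rangeRestrict_surjective _)) (by
      rintro _ ⟨t, rfl⟩ _ ⟨k, rfl⟩
      refine ⟨⟨_, hKT t k k.2⟩, MulEquiv.ext fun x => Subtype.ext ?_⟩
      rw [MulAut.mul_apply, MulAut.mul_apply, ← map_inv (resHom φ U hUT)]
      show (φ t * (k : MulAut E) * (φ t)⁻¹) x = φ t ((k : MulAut E) (φ t⁻¹ x))
      rw [map_inv]
      rfl)
    (fun x hx => by
      rcases hfix x (fun k hk => by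
        have h1 := congrArg Subtype.val (hx _ ⟨⟨k, hk⟩, rfl⟩)
        exact h1) with h | h
      · exact Or.inl (Subtype.ext h)
      · exact Or.inr (Subtype.ext h))
  exact ⟨_, hη.pullback (φ' := resHom φ U hUT) (resHom φ U hUT).rangeRestrict fun t => rfl⟩

omit [Finite E] in
theorem centralizer_invariant {U : Subgroup E} {f : MulAut E} (hf : ∀ x ∈ U, f⁻¹ x ∈ U) :
    ∀ w ∈ centralizer (U : Set E), f w ∈ centralizer (U : Set E) := fun w hw =>
  mem_centralizer_iff.2 fun x hx => by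
    have h := congrArg f (mem_centralizer_iff.1 hw _ (hf x hx))
    rwa [map_mul, map_mul, ← MulAut.mul_apply, mul_inv_cancel, MulAut.one_apply] at h

/-- A proper invariant subgroup supplemented by its centralizer gives the extension. -/
theorem split_ext (hq : Quad z) (IH : ∀ m < Nat.card E, HasExts.{u} m) (hT : IsPGroup 2 T)
    (K : Subgroup (MulAut E)) (hK : Odd (Nat.card K)) (hKT : ∀ t, ∀ k ∈ K, φ t * k * (φ t)⁻¹ ∈ K)
    (hfix : ∀ x : E, (∀ k ∈ K, k x = x) → x = 1 ∨ x = z)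
    (U : Subgroup E) (hzU : z ∈ U) (hdec : ∀ y, ∃ u ∈ U, ∃ w ∈ centralizer (U : Set E), y = u * w)
    (hU : U ≠ ⊤) (hU' : ∃ x ∈ U, x ≠ 1 ∧ x ≠ z) (hUT : ∀ t, ∀ x ∈ U, φ t x ∈ U)
    (hUK : ∀ k ∈ K, ∀ x ∈ U, k x ∈ U) : ∃ η, IsExt z φ η := by
  have hz₂ : z ∈ centralizer (U : Set E) := mem_centralizer_iff.2 fun x _ => (hq.central x).eq.symm
  have hCT : ∀ t, ∀ x ∈ centralizer (U : Set E), φ t x ∈ centralizer (U : Set E) := fun t =>
    centralizer_invariant fun x hx => by rw [← map_inv]; exact hUT t⁻¹ x hx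
  have hCK : ∀ k ∈ K, ∀ x ∈ centralizer (U : Set E), k x ∈ centralizer (U : Set E) := fun k hk =>
    centralizer_invariant fun x hx => hUK _ (inv_mem hk) x hx
  have hC : centralizer (U : Set E) ≠ ⊤ := fun h => by
    obtain ⟨x, hx, hx1, hxz⟩ := hU'
    rcases hq.center x (fun y => mem_centralizer_iff.1 (h ▸ mem_top y : y ∈ centralizer (U : Set E)) x hx)
      with h' | h'
    · exact hx1 h'
    · exact hxz h'
  obtain ⟨η₁, hη₁⟩ := ind_sub φ IH hT K hK hKT hfix U hzU (quad_sub hq hzU hdec) hU hUT hUK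
  obtain ⟨η₂, hη₂⟩ := ind_sub φ IH hT K hK hKT hfix _ hz₂ (quad_centralizer hq hzU hdec) hC hCT hCK
  obtain ⟨η, hη, -⟩ := product φ hq hzU hz₂ (fun x hx y hy => mem_centralizer_iff.1 hy x hx)
    (fun e => by obtain ⟨u, hu, w, hw, h⟩ := hdec e; exact ⟨u, hu, w, hw, h⟩)
    (fun x hx hx' => hq.center x fun y => by
      obtain ⟨u, hu, w, hw, rfl⟩ := hdec y
      exact (show Commute x u from (mem_centralizer_iff.1 hx' u hu).symm).mul_right
        (mem_centralizer_iff.1 hw x hx)) hUT hCT hη₁ hη₂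
  exact ⟨η, hη⟩

end CfsgLib.Char.ExtraspecialExt
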